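import Groth.Prelude.Def_Frob
import Groth.Prelude.Def_Flat
import Groth.Agent.FlatA.UnivHomeo
import Mathlib.AlgebraicGeometry.Morphisms.Integral
import Mathlib.AlgebraicGeometry.Morphisms.Finite
import Mathlib.AlgebraicGeometry.ResidueField
import Mathlib.RingTheory.RingHom.PurelyInseparable

/-!
# Absolute and relative Frobenius: universal homeomorphisms, integral, finite
-/

set_option autoImplicit false

universe u

open CategoryTheory CategoryTheory.Limits AlgebraicGeometry

namespace K430.Frob

variable (X : Scheme.{u}) (p : ℕ) [Fact p.Prime] [FrobSch.IsCharP X p]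

lemma frob_isAffineHom : IsAffineHom (FrobSch.frob X p) := ⟨fun _ hU => hU⟩

lemma isIntegral_of_pow {A B : Type*} [CommRing A] [CommRing B] (φ : A →+* B) (p : ℕ) (hp : p ≠ 0)
    (h : ∀ b : B, ∃ a : A, φ a = b ^ p) : φ.IsIntegral := fun b => by
  obtain ⟨a, ha⟩ := h b
  refine ⟨Polynomial.X ^ p - Polynomial.C a, Polynomial.monic_X_pow_sub_C _ hp, ?_⟩
  rw [Polynomial.eval₂_sub, Polynomial.eval₂_pow, Polynomial.eval₂_X, Polynomial.eval₂_C, ha, sub_self]

lemma frob_isIntegralHom : IsIntegralHom (FrobSch.frob X p) :=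
  { frob_isAffineHom X p with
    isIntegral_app := fun U _ =>
      isIntegral_of_pow _ p (Fact.out : p.Prime).ne_zero fun b => ⟨b, rfl⟩ }

lemma frob_stalkMap (x : X) (a : X.presheaf.stalk x) :
    ((FrobSch.frob X p).stalkMap x).hom a = (a : X.presheaf.stalk x) ^ p := by
  obtain ⟨U, hx, s, rfl⟩ := X.presheaf.exists_germ_eq (x := x) a
  have h1 := Scheme.Hom.germ_stalkMap_apply (FrobSch.frob X p) U x hx s
  refine h1.trans ?_
  change X.presheaf.germ U x hx (s ^ p) = _
  rw [map_pow]

lemma frob_residueFieldMap (x : X) (a : X.residueField x) :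
    ((FrobSch.frob X p).residueFieldMap x).hom a = (a : X.residueField x) ^ p := by
  obtain ⟨b, rfl⟩ := X.residue_surjective x a
  have h1 := Scheme.residue_residueFieldMap (FrobSch.frob X p) x
  have h2 := congr($h1 b)
  simp only [CommRingCat.comp_apply] at h2
  refine h2.trans ?_
  have h3 := frob_stalkMap X p x b
  rw [show (Scheme.Hom.stalkMap (FrobSch.frob X p) x) b = (b : X.presheaf.stalk x) ^ p from h3, map_pow]

lemma charP_residueField (x : X) : CharP (X.residueField x) p := by
  rw [CharP.charP_iff_prime_eq_zero Fact.out]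
  have h := FrobSch.IsCharP.natCast_eq_zero (X := X) (p := p)
  have h2 := congrArg (X.evaluation ⊤ x trivial) h
  simpa using h2

lemma frob_isPurelyInseparable (x : X) :
    ((FrobSch.frob X p).residueFieldMap x).hom.IsPurelyInseparable := by
  algebraize [((FrobSch.frob X p).residueFieldMap x).hom]
  have : CharP (X.residueField x) p := charP_residueField X p x
  have : CharP (X.residueField ((FrobSch.frob X p) x)) p := charP_residueField X p _
  have : ExpChar (X.residueField ((FrobSch.frob X p) x)) p := ExpChar.prime Fact.out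
  rw [RingHom.IsPurelyInseparable]
  rw [isPurelyInseparable_iff_pow_mem (X.residueField ((FrobSch.frob X p) x)) p]
  intro a
  refine ⟨1, a, ?_⟩
  rw [pow_one]
  exact frob_residueFieldMap X p x a

lemma univInj_iff {X Y : Scheme.{u}} (f : X ⟶ Y) : UniversallyInjective f ↔
    Function.Injective f ∧ ∀ x, (f.residueFieldMap x).hom.IsPurelyInseparable :=
  (tfae_universallyInjective f).out 0 2

lemma frob_universallyInjective : UniversallyInjective (FrobSch.frob X p) :=
  (univInj_iff (FrobSch.frob X p)).mpr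
    ⟨fun _ _ h => h, frob_isPurelyInseparable X p⟩

lemma frob_surjective : Surjective (FrobSch.frob X p) := ⟨fun x => ⟨x, rfl⟩⟩

theorem frob_isUnivHomeo : FlatMor.IsUnivHomeo (FrobSch.frob X p) :=
  (Groth.Agent.FlatA.UnivHomeo.isUnivHomeo_iff _).mpr
    ⟨frob_isIntegralHom X p, frob_universallyInjective X p, frob_surjective X p⟩

section Rel

variable {X} {S : Scheme.{u}} (p : ℕ) [Fact p.Prime] [FrobSch.IsCharP S p] (f : X ⟶ S)

theorem relFrob_isUnivHomeo : FlatMor.IsUnivHomeo (FrobSch.relFrob f p) := by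
  have : FrobSch.IsCharP X p := FrobSch.IsCharP.of_hom f p
  refine Groth.Agent.FlatA.UnivHomeo.isUnivHomeo_of_postcomp _ (pullback.fst f (FrobSch.frob S p)) ?_ ?_
  · rw [FrobSch.relFrob_fst]
    exact frob_isUnivHomeo X p
  · exact Groth.Agent.FlatA.UnivHomeo.isUnivHomeo_of_isPullback
      (IsPullback.of_hasPullback f (FrobSch.frob S p)).flip (frob_isUnivHomeo S p)

theorem relFrob_isIntegralHom : IsIntegralHom (FrobSch.relFrob f p) :=
  ((Groth.Agent.FlatA.UnivHomeo.isUnivHomeo_iff _).mp (relFrob_isUnivHomeo p f)).1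

theorem relFrob_isPurelyInseparable (x : X) :
    ((FrobSch.relFrob f p).residueFieldMap x).hom.IsPurelyInseparable :=
  ((univInj_iff (FrobSch.relFrob f p)).mp
    ((Groth.Agent.FlatA.UnivHomeo.isUnivHomeo_iff _).mp (relFrob_isUnivHomeo p f)).2.1).2 x

theorem relFrob_isFinite [LocallyOfFiniteType f] : IsFinite (FrobSch.relFrob f p) := by
  rw [IsFinite.iff_isIntegralHom_and_locallyOfFiniteType]
  refine ⟨relFrob_isIntegralHom p f, ?_⟩
  have h : LocallyOfFiniteType (FrobSch.relFrob f p ≫ pullback.snd f (FrobSch.frob S p)) := by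
    rw [FrobSch.relFrob_snd]; infer_instance
  exact locallyOfFiniteType_of_comp (FrobSch.relFrob f p) (pullback.snd f (FrobSch.frob S p))

end Rel

end K430.Frob
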