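import Groth.Agent.Variety.K430.DiffStalk
import Groth.Agent.OmegaSh.K583.ExtPowPull
import Groth.Agent.Nrm16.K136.UnivOmega
import Groth.Agent.Dual.H339.OmegaRank
import Groth.Agent.Krr.H495.Rank
import Groth.Agent.Krr.H478.EpiIso
import Groth.Agent.Ega2.QCohLocal
import Groth.Agent.Sga67.LocBasisOps

/-!
# The relative canonical divisor

`exists_can_div`: for a morphism `h : X' ⟶ X` of smooth varieties of the same dimension `n` which is a local isomorphism
at the generic point, the determinant of `h^* Ω_X ⟶ Ω_{X'}` has an effective Cartier divisor `K` with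
`W' ⊗ I_K ≅ h^* W`; its stalks are computed by Jacobian determinants.
-/

set_option autoImplicit false
universe u

open CategoryTheory CategoryTheory.Limits AlgebraicGeometry Opposite TopologicalSpace

namespace K430.CanDiv

open Groth.Agent Groth.Agent.CycB.StalkExact Groth.Agent.Fdesc.PullbackStalk OmegaSh K583.DerFunct K583.StalkDer
open Groth.Agent.Divis.CartierBasic K430.DiffStalk

theorem isInvertible_extPow {X : Scheme.{u}} {m : ℕ} {E L : X.Modules} (hE : FlatMod.IsFinLocFreeOfRank m E)
    (hL : ExtPow.IsExtPow m E L) : PicF.IsInvertible L := by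
  rw [← Ega2.QCohLocal.isFinLocFreeOfRank_one_iff, Krr.H495.Rank.isFinLocFreeOfRank_iff]
  have hE' := Krr.H495.Rank.isFinLocFree_of_rank hE
  refine ⟨Sga67.LocBasis.isFinLocFree_of_isExtPow hE' hL, fun x => ?_⟩
  rw [Krr.H495.Rank.rk_extPow hE' hL, Krr.H495.Rank.rk_of_rank hE, Nat.choose_self]

/-- bases of the stalks of the pullback -/
noncomputable def pullBasis {X X' : Scheme.{u}} (h : X' ⟶ X) (M : X.Modules) (x : X') {n : ℕ}
    (b : Module.Basis (Fin n) (X.presheaf.stalk (h x)) (M.presheaf.stalk (h x))) :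
    Module.Basis (Fin n) (X'.presheaf.stalk x) (((Scheme.Modules.pullback h).obj M).presheaf.stalk x) :=
  letI := stalkAlg h x
  (b.baseChange (X'.presheaf.stalk x)).map (stalkPullbackEquiv h M x)

variable {X X' Y : Scheme.{u}} (p : X ⟶ Y) (h : X' ⟶ X) [QuasiSeparated p] [QuasiSeparated (h ≫ p)]

/-- The canonical map `h^* Ω_{X/Y} ⟶ Ω_{X'/Y}`. -/
noncomputable def canMap : (Scheme.Modules.pullback h).obj (Omega.sheaf p) ⟶ Omega.sheaf (h ≫ p) :=
  diffMap (f := p) (f' := h ≫ p) (b := 𝟙 Y) (Category.comp_id _) (K136.UnivOmega.isUniversal_dOmega p)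
    (dOmega (h ≫ p))

theorem isDiffCompat_canMap : IsDiffCompat h (dOmega p) (dOmega (h ≫ p)) (canMap p h) :=
  isDiffCompat_diffMap (f := p) (f' := h ≫ p) (b := 𝟙 Y) (Category.comp_id _) (K136.UnivOmega.isUniversal_dOmega p)
    (dOmega (h ≫ p))

/-- **The relative canonical divisor.** -/
theorem exists_can_div (n : ℕ) [SmoothOfRelativeDimension n p] [SmoothOfRelativeDimension n (h ≫ p)]
    [IsIntegral X'] (hη : Function.Surjective (h.stalkMap (genericPoint X')))
    {W : X.Modules} {W' : X'.Modules} (hW : ExtPow.IsExtPow n (Omega.sheaf p) W)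
    (hW' : ExtPow.IsExtPow n (Omega.sheaf (h ≫ p)) W') :
    ∃ K : X'.IdealSheafData, BlowUp.IsEffCartierIdeal K ∧
      Nonempty (CohB1.tensorMod W' (ClSub.idealMod K) ≅ (Scheme.Modules.pullback h).obj W) ∧
      (∀ x : X', stalkIdeal K x = ⊤ ↔ Function.Surjective (stalkLin (canMap p h) x)) ∧
      ∀ (x : X') (ι : Type) [Fintype ι] [DecidableEq ι] (_ : Fintype.card ι = n) (e : ι → X.presheaf.stalk (h x))
        (w : ι → X'.presheaf.stalk x)
        (_ : Submodule.span (X.presheaf.stalk (h x)) (Set.range fun i => stalkDer (dOmega p) (h x) (e i)) = ⊤)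
        (_ : Submodule.span (X'.presheaf.stalk x) (Set.range fun i => stalkDer (dOmega (h ≫ p)) x (w i)) = ⊤)
        (A : Matrix ι ι (X'.presheaf.stalk x))
        (_ : ∀ i, stalkDer (dOmega (h ≫ p)) x (h.stalkMap x (e i)) = ∑ j, A i j • stalkDer (dOmega (h ≫ p)) x (w j)),
        stalkIdeal K x = Ideal.span {A.det} := by
  have r1 := Dual.H339.OmegaRank.isFinLocFreeOfRank_omega n p
  have r2 := Dual.H339.OmegaRank.isFinLocFreeOfRank_omega n (h ≫ p)
  have q1 : Coh.IsQCoh (Omega.sheaf p) := Ega2.QCohLocal.isQCoh_of_isFinLocFree (Ega2.QCohLocal.isFinLocFree_of_rank r1)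
  have q2 : Coh.IsQCoh (Omega.sheaf (h ≫ p)) :=
    Ega2.QCohLocal.isQCoh_of_isFinLocFree (Ega2.QCohLocal.isFinLocFree_of_rank r2)
  have q3 : Coh.IsQCoh ((Scheme.Modules.pullback h).obj (Omega.sheaf p)) :=
    @CohqA.PullbackQCoh.isQuasicoherent_pullback _ _ h (Omega.sheaf p) q1
  have i1 : PicF.IsInvertible W := isInvertible_extPow r1 hW
  have i2 : PicF.IsInvertible W' := isInvertible_extPow r2 hW'
  have i3 : PicF.IsInvertible ((Scheme.Modules.pullback h).obj W) := Fdesc.LocGen.isInvertible_pullback h i1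
  have e3 : ExtPow.IsExtPow n ((Scheme.Modules.pullback h).obj (Omega.sheaf p)) ((Scheme.Modules.pullback h).obj W) :=
    K583.ExtPowPull.isExtPow_pullback h q1 hW
  have u1 := K136.UnivOmega.isUniversal_dOmega p
  have u2 := K136.UnivOmega.isUniversal_dOmega (h ≫ p)
  have hc := isDiffCompat_canMap p h
  have hb : ∀ x : X', Nonempty (Module.Basis (Fin n) (X'.presheaf.stalk x)
      (((Scheme.Modules.pullback h).obj (Omega.sheaf p)).presheaf.stalk x)) := fun x => by
    obtain ⟨b⟩ := Krr.H478.EpiIso.exists_basis r1 (h x)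
    exact ⟨pullBasis h _ x b⟩
  have hc' : ∀ x : X', Nonempty (Module.Basis (Fin n) (X'.presheaf.stalk x)
      ((Omega.sheaf (h ≫ p)).presheaf.stalk x)) := fun x => Krr.H478.EpiIso.exists_basis r2 x
  have hbij : Function.Bijective (stalkLin (canMap p h) (genericPoint X')) := by
    have hs := surjective_of_surjective u1 u2 hc (genericPoint X') hη
    refine ⟨?_, hs⟩
    obtain ⟨b⟩ := hb (genericPoint X')
    obtain ⟨c⟩ := hc' (genericPoint X')
    obtain ⟨b', hb'⟩ := basis_of_span c (Fintype.card_fin n) (stalkLin (canMap p h) (genericPoint X') ∘ b) (by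
      rw [Set.range_comp, ← Submodule.map_span, b.span_eq, ← LinearMap.range_eq_map, LinearMap.range_eq_top]
      exact hs)
    have h1 : stalkLin (canMap p h) (genericPoint X') = (b.equiv b' (Equiv.refl _)).toLinearMap := by
      refine b.ext fun i => ?_
      have := congrFun hb' i
      simp only [LinearEquiv.coe_coe, Module.Basis.equiv_apply, Equiv.refl_apply]
      exact this.symm
    rw [h1]
    exact (b.equiv b' (Equiv.refl _)).injective
  obtain ⟨K, hK, hiso, hdet⟩ := K430.DivHom.exists_det_div q3 q2 e3 hW' i3 i2 (canMap p h) hbij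
  refine ⟨K, hK, hiso, fun x => ?_, ?_⟩
  · obtain ⟨b⟩ := hb x
    obtain ⟨c⟩ := hc' x
    rw [hdet x b c, Ideal.span_singleton_eq_top, isUnit_det_iff]
  · intro x ι _ _ hcard e w he hw A hA
    obtain ⟨b₀⟩ := hb x
    obtain ⟨c₀⟩ := hc' x
    obtain ⟨b, hb⟩ := basis_of_span b₀ hcard
      (fun i => canAdd h (Omega.sheaf p) x (stalkDer (dOmega p) (h x) (e i))) (by
        have := span_can h (Omega.sheaf p) x _ he
        rw [← Set.range_comp] at this
        exact this)
    obtain ⟨c, hc₁⟩ := basis_of_span c₀ hcard _ hw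
    let ε : ι ≃ Fin n := Fintype.equivFinOfCardEq hcard
    rw [hdet x (b.reindex ε) (c.reindex ε), det_reindex', Module.Basis.det_apply, ← Matrix.det_transpose]
    congr 3
    ext i j
    rw [Matrix.transpose_apply, Module.Basis.toMatrix_apply, Function.comp_apply]
    have h1 : stalkLin (canMap p h) x (b i) = ∑ j, A i j • c j := by
      rw [hb, hc₁]
      exact (stalkLin_canAdd hc x (e i)).trans (hA i)
    rw [h1, map_sum, Finsupp.finsetSum_apply]
    simp only [map_smul, Finsupp.smul_apply, Module.Basis.repr_self, smul_eq_mul]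
    rw [Finset.sum_eq_single j]
    · simp
    · intro k _ hk
      rw [Finsupp.single_eq_of_ne hk.symm, mul_zero]
    · intro hj
      exact absurd (Finset.mem_univ j) hj

end K430.CanDiv
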