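import Groth.Agent.S1608
import Groth.Agent.S1655

/-!
# Proper birational morphisms onto normal schemes: isomorphism in codimension one
-/

set_option autoImplicit false

universe u

open CategoryTheory CategoryTheory.Limits AlgebraicGeometry

namespace K430.BirLoc

/-- Points of the target of an isomorphism over an open are images. -/
theorem exists_pt {X Y : Scheme.{u}} (f : X ⟶ Y) (V : Y.Opens) [IsIso (f ∣_ V)] (v : Y) (hv : v ∈ V) :
    ∃ x : X, f x = v := by
  have hs : Function.Surjective (f ∣_ V) := (inferInstance : Surjective (f ∣_ V)).surj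
  obtain ⟨w, hw⟩ := hs ⟨v, hv⟩
  refine ⟨w.1, ?_⟩
  have h3 := morphismRestrict_base_coe f V w
  rw [hw] at h3
  exact h3.symm

/-- A proper morphism to an irreducible scheme which is an isomorphism over a nonempty open is
surjective. -/
theorem surjective_of_isIso {X Y : Scheme.{u}} (f : X ⟶ Y) [IrreducibleSpace Y] [UniversallyClosed f]
    (V : Y.Opens) (hV : (V : Set Y).Nonempty) [IsIso (f ∣_ V)] : Surjective f := by
  constructor
  rw [← Set.range_eq_univ, ← f.isClosedMap.isClosed_range.closure_eq]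
  refine Set.eq_univ_of_univ_subset ?_
  rw [← (V.isOpen.dense hV).closure_eq]
  refine closure_mono ?_
  intro w hw
  obtain ⟨x, hx⟩ := exists_pt f V w hw
  exact ⟨x, hx⟩

theorem quasiFiniteAt_of_isIso {X Y : Scheme.{u}} (f : X ⟶ Y)
    (V : Y.Opens) [IsIso (f ∣_ V)] (x : X) (hx : f x ∈ V) : f.QuasiFiniteAt x := by
  have hopen : IsOpenImmersion ((f ⁻¹ᵁ V).ι ≫ f) := by
    rw [← morphismRestrict_ι]; infer_instance
  have h1 : ((f ⁻¹ᵁ V).ι ≫ f).QuasiFiniteAt (⟨x, hx⟩ : (f ⁻¹ᵁ V : X.Opens)) :=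
    Scheme.Hom.quasiFiniteAt _ _
  exact (Scheme.Hom.quasiFiniteAt_comp_iff_of_isOpenImmersion (f := (f ⁻¹ᵁ V).ι)
    (x := (⟨x, hx⟩ : (f ⁻¹ᵁ V : X.Opens)))).mp h1

theorem genericPoint_mem {X Y : Scheme.{u}} (f : X ⟶ Y) [IrreducibleSpace X]
    (V : Y.Opens) (hV : (V : Set Y).Nonempty) [IsIso (f ∣_ V)] : f (genericPoint X) ∈ V := by
  obtain ⟨v, hv⟩ := hV
  obtain ⟨x, hx⟩ := exists_pt f V v hv
  have hx' : x ∈ f ⁻¹ᵁ V := by
    change f x ∈ V
    rw [hx]; exact hv
  exact ((genericPoint_spec X).specializes (Set.mem_univ x)).mem_open (f ⁻¹ᵁ V).isOpen hx'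

/-- A proper birational morphism to a Noetherian integral scheme is an isomorphism over a neighbourhood of every
normal point of codimension at most one. -/
theorem exists_isIso_restrict {X Y : Scheme.{u}} [IsIntegral X] [IsIntegral Y] [IsNoetherian Y]
    (f : X ⟶ Y) [IsProper f] (V : Y.Opens) (hV : (V : Set Y).Nonempty) (hfV : IsIso (f ∣_ V))
    (y : Y) (hY : IsIntegrallyClosed (Y.presheaf.stalk y)) (hy : ringKrullDim (Y.presheaf.stalk y) ≤ 1) :
    ∃ V : Y.Opens, y ∈ V ∧ IsIso (f ∣_ V) := by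
  have hsurj := surjective_of_isIso f V hV
  obtain ⟨x, hx⟩ := hsurj.surj y
  have hq : f.QuasiFiniteAt x := by
    refine Groth.Agent.S1608.result f y hy ?_ x hx
    intro Z hZ η hη'
    have hZ' : Z = Set.univ := by
      rw [irreducibleComponents_eq_singleton (X := X)] at hZ
      exact hZ
    have hηη : η = genericPoint X := by
      subst hZ'
      exact hη'.eq (genericPoint_spec X)
    rw [hηη]
    exact quasiFiniteAt_of_isIso f V _ (genericPoint_mem f V hV)
  exact Groth.Agent.S1655.result f V hV hfV y hY x hx hq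

end K430.BirLoc
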