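import Mathlib.RingTheory.Etale.Kaehler
import Mathlib.RingTheory.Etale.Field
import Mathlib.RingTheory.Smooth.Field
import Mathlib.FieldTheory.KummerPolynomial
import Mathlib.FieldTheory.PurelyInseparable.Basic
import Mathlib.Algebra.MvPolynomial.Derivation
import Mathlib.FieldTheory.PrimitiveElement
import Mathlib.FieldTheory.Relrank

/-!
# The degree of a separably generated field extension over the compositum of the base and the `p`-th powers
-/

set_option autoImplicit false

open TensorProduct

namespace K430.PDeg

theorem exists_derivation_of_formallyEtale (k P K : Type*) [CommRing k] [CommRing P] [CommRing K] [Algebra k P]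
    [Algebra k K] [Algebra P K] [IsScalarTower k P K] [Algebra.FormallyEtale P K] (D : Derivation k P K) :
    ∃ D' : Derivation k K K, ∀ x, D' (algebraMap P K x) = D x := by
  let l : Ω[K⁄k] →ₗ[K] K := (LinearMap.liftBaseChange K D.liftKaehlerDifferential).comp
    (KaehlerDifferential.tensorKaehlerEquivOfFormallyEtale k P K).symm.toLinearMap
  refine ⟨l.compDer (KaehlerDifferential.D k K), fun x => ?_⟩
  change l (KaehlerDifferential.D k K (algebraMap P K x)) = D x
  simp only [l, LinearMap.comp_apply, LinearEquiv.coe_coe,
    KaehlerDifferential.tensorKaehlerEquivOfFormallyEtale_symm_D_algebraMap, LinearMap.liftBaseChange_tmul,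
    one_smul, Derivation.liftKaehlerDifferential_comp_D]

open scoped IntermediateField.algebraAdjoinAdjoin in
theorem exists_derivation {k K ι : Type*} [Field k] [Field K] [Algebra k K] {t : ι → K}
    (ht : AlgebraicIndependent k t) [Algebra.IsSeparable (IntermediateField.adjoin k (Set.range t)) K]
    [DecidableEq ι] (i : ι) : ∃ D : Derivation k K K, ∀ j, D (t j) = if j = i then 1 else 0 := by
  have h1 : Algebra.FormallyEtale (Algebra.adjoin k (Set.range t)) (IntermediateField.adjoin k (Set.range t)) :=
    .of_isLocalization (nonZeroDivisors _)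
  have h2 : Algebra.FormallyEtale (IntermediateField.adjoin k (Set.range t)) K :=
    Algebra.FormallyEtale.of_isSeparable _ K
  have h3 : Algebra.FormallyEtale (Algebra.adjoin k (Set.range t)) K :=
    .comp _ (IntermediateField.adjoin k (Set.range t)) _
  let _ : Algebra (MvPolynomial ι k) (Algebra.adjoin k (Set.range t)) := ht.aevalEquiv.toAlgHom.toRingHom.toAlgebra
  let _ : Algebra (MvPolynomial ι k) K := (MvPolynomial.aeval (R := k) t).toRingHom.toAlgebra
  have : IsScalarTower k (MvPolynomial ι k) K := .of_algebraMap_eq fun r => by
    change _ = MvPolynomial.aeval t (MvPolynomial.C r)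
    rw [MvPolynomial.aeval_C]
  have : IsScalarTower (MvPolynomial ι k) (Algebra.adjoin k (Set.range t)) K := .of_algebraMap_eq fun r => by
    change MvPolynomial.aeval t r = ((ht.aevalEquiv r : Algebra.adjoin k (Set.range t)) : K)
    exact (ht.algebraMap_aevalEquiv r).symm
  have h4 : Algebra.FormallyEtale (MvPolynomial ι k) (Algebra.adjoin k (Set.range t)) :=
    Algebra.FormallyEtale.of_equiv (AlgEquiv.ofBijective (Algebra.ofId (MvPolynomial ι k)
      (Algebra.adjoin k (Set.range t))) ht.aevalEquiv.bijective)
  have h5 : Algebra.FormallyEtale (MvPolynomial ι k) K := .comp _ (Algebra.adjoin k (Set.range t)) _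
  obtain ⟨D, hD⟩ := exists_derivation_of_formallyEtale k (MvPolynomial ι k) K
    (MvPolynomial.mkDerivation k fun j => if j = i then (1 : K) else 0)
  refine ⟨D, fun j => ?_⟩
  have := hD (MvPolynomial.X j)
  rw [MvPolynomial.mkDerivation_X] at this
  rw [← this]
  congr 1
  change _ = MvPolynomial.aeval t (MvPolynomial.X j)
  rw [MvPolynomial.aeval_X]

/-- Adjoining one `p`-th root. -/
theorem finrank_adjoin_step {F K : Type*} [Field F] [Field K] [Algebra F K] (p : ℕ) [Fact p.Prime] [CharP K p]
    (t : K) (a : F) (ha : algebraMap F K a = t ^ p) (ht : t ∉ Set.range (algebraMap F K)) :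
    Module.finrank F (IntermediateField.adjoin F {t}) = p := by
  have hirr : Irreducible (Polynomial.X ^ p - Polynomial.C a) := by
    refine X_pow_sub_C_irreducible_of_prime Fact.out fun b hb => ht ⟨b, ?_⟩
    have h1 : (algebraMap F K b) ^ p = t ^ p := by rw [← map_pow, hb, ha]
    exact (frobenius_inj K p) h1
  have hint : IsIntegral F t := by
    refine ⟨Polynomial.X ^ p - Polynomial.C a, Polynomial.monic_X_pow_sub_C _ (Fact.out : p.Prime).ne_zero, ?_⟩
    rw [Polynomial.eval₂_sub, Polynomial.eval₂_pow, Polynomial.eval₂_X, Polynomial.eval₂_C, ha, sub_self]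
  have hmin : minpoly F t = Polynomial.X ^ p - Polynomial.C a := by
    symm
    refine minpoly.eq_of_irreducible_of_monic hirr ?_ (Polynomial.monic_X_pow_sub_C _ (Fact.out : p.Prime).ne_zero)
    simp [ha]
  rw [IntermediateField.adjoin.finrank hint, hmin, Polynomial.natDegree_X_pow_sub_C]

/-- The kernel of a derivation contains every subfield generated by constants. -/
theorem derivation_eq_zero {k K : Type*} [Field k] [Field K] [Algebra k K] (D : Derivation k K K) (s : Set K)
    (hs : ∀ x ∈ s, D x = 0) (x : K) (hx : x ∈ IntermediateField.adjoin k s) : D x = 0 := by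
  induction hx using IntermediateField.adjoin_induction with
  | mem x hx => exact hs x hx
  | algebraMap x => exact D.map_algebraMap x
  | add x y _ _ hx hy => rw [map_add, hx, hy, add_zero]
  | inv x _ hx =>
    by_cases h : x = 0
    · simp [h]
    · have h1 : D (x * x⁻¹) = 0 := by rw [mul_inv_cancel₀ h]; exact D.map_one_eq_zero
      rw [D.leibniz, hx, smul_zero, add_zero, smul_eq_mul] at h1
      exact (mul_eq_zero.mp h1).resolve_left h
  | mul x y _ _ hx hy => rw [D.leibniz, hx, hy, smul_zero, smul_zero, add_zero]

theorem derivation_pow {k K : Type*} [Field k] [Field K] [Algebra k K] (p : ℕ) [CharP K p]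
    (D : Derivation k K K) (x : K) : D (x ^ p) = 0 := by
  rw [D.leibniz_pow, ← Nat.cast_smul_eq_nsmul K, CharP.cast_eq_zero, zero_smul]

section Main

variable {k K ι : Type*} [Field k] [Field K] [Algebra k K] (p : ℕ) [Fact p.Prime] [CharP K p] (t : ι → K)

/-- The compositum of `k`, `K ^ p` and some of the elements `t i`. -/
noncomputable def E (s : Set ι) : IntermediateField k K :=
  IntermediateField.adjoin k (Set.range (fun x : K => x ^ p) ∪ t '' s)

variable {t}

theorem relfinrank_step (ht : AlgebraicIndependent k t)
    [Algebra.IsSeparable (IntermediateField.adjoin k (Set.range t)) K] (s : Set ι) (i : ι) (hi : i ∉ s) :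
    IntermediateField.relfinrank (E (k := k) p t s) (E (k := k) p t (insert i s)) = p := by
  classical
  have hle : E (k := k) p t s ≤ E (k := k) p t (insert i s) := by
    apply IntermediateField.adjoin.mono
    exact Set.union_subset_union_right _ (Set.image_mono (Set.subset_insert _ _))
  rw [IntermediateField.relfinrank_eq_finrank_of_le hle]
  have h1 : IntermediateField.extendScalars hle =
      IntermediateField.adjoin (E (k := k) p t s) {t i} := by
    apply IntermediateField.restrictScalars_injective k
    rw [IntermediateField.extendScalars_restrictScalars]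
    unfold E
    rw [IntermediateField.adjoin_adjoin_left, Set.union_assoc, Set.image_insert_eq, Set.union_singleton]
  rw [h1]
  have hmem : t i ^ p ∈ E (k := k) p t s :=
    IntermediateField.subset_adjoin _ _ (Or.inl ⟨t i, rfl⟩)
  refine finrank_adjoin_step p (t i) (⟨t i ^ p, hmem⟩ : E (k := k) p t s) rfl ?_
  rintro ⟨⟨y, hy⟩, hy'⟩
  have hy'' : y = t i := hy'
  subst hy''
  obtain ⟨D, hD⟩ := exists_derivation ht i
  have h2 : D (t i) = 0 := by
    refine derivation_eq_zero D _ ?_ _ hy
    rintro x (⟨z, rfl⟩ | ⟨j, hj, rfl⟩)
    · exact derivation_pow p D z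
    · rw [hD, if_neg]
      rintro rfl
      exact hi hj
  rw [hD, if_pos rfl] at h2
  exact one_ne_zero h2

theorem relfinrank_finset (ht : AlgebraicIndependent k t)
    [Algebra.IsSeparable (IntermediateField.adjoin k (Set.range t)) K] (s : Finset ι) :
    IntermediateField.relfinrank (E (k := k) p t ∅) (E (k := k) p t (s : Set ι)) = p ^ s.card := by
  classical
  induction s using Finset.induction_on with
  | empty => rw [Finset.coe_empty, IntermediateField.relfinrank_self, Finset.card_empty, pow_zero]
  | insert i s hi ih =>
    have h1 := relfinrank_step (k := k) p ht (s : Set ι) i (by simpa using hi)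
    have h2 : E (k := k) p t ∅ ≤ E (k := k) p t (s : Set ι) :=
      IntermediateField.adjoin.mono _ _ _ (Set.union_subset_union_right _ (Set.image_mono (Set.empty_subset _)))
    have h3 : E (k := k) p t (s : Set ι) ≤ E (k := k) p t (insert i (s : Set ι)) :=
      IntermediateField.adjoin.mono _ _ _ (Set.union_subset_union_right _ (Set.image_mono (Set.subset_insert _ _)))
    have h4 := IntermediateField.relfinrank_mul_relfinrank h2 h3
    rw [ih, h1] at h4
    rw [Finset.coe_insert, Finset.card_insert_of_notMem hi, pow_succ]
    exact h4.symm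

theorem E_univ [Algebra.IsSeparable (IntermediateField.adjoin k (Set.range t)) K] :
    E (k := k) p t Set.univ = ⊤ := by
  have hle : IntermediateField.adjoin k (Set.range t) ≤ E (k := k) p t Set.univ := by
    apply IntermediateField.adjoin.mono
    rw [Set.image_univ]
    exact Set.subset_union_right
  let _ : Algebra (IntermediateField.adjoin k (Set.range t)) (E (k := k) p t Set.univ) :=
    (IntermediateField.inclusion hle).toRingHom.toAlgebra
  have : IsScalarTower (IntermediateField.adjoin k (Set.range t)) (E (k := k) p t Set.univ) K :=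
    .of_algebraMap_eq fun _ => rfl
  have hsep : Algebra.IsSeparable (E (k := k) p t Set.univ) K :=
    Algebra.isSeparable_tower_top_of_isSeparable (IntermediateField.adjoin k (Set.range t)) _ K
  have : CharP (E (k := k) p t Set.univ) p :=
    (algebraMap (E (k := k) p t Set.univ) K).charP (algebraMap (E (k := k) p t Set.univ) K).injective p
  have : ExpChar (E (k := k) p t Set.univ) p := ExpChar.prime Fact.out
  have hpi : IsPurelyInseparable (E (k := k) p t Set.univ) K := by
    rw [isPurelyInseparable_iff_pow_mem _ p]
    intro x
    refine ⟨1, ⟨x ^ p, IntermediateField.subset_adjoin _ _ (Or.inl ⟨x, rfl⟩)⟩, ?_⟩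
    rw [pow_one]; rfl
  have := IsPurelyInseparable.surjective_algebraMap_of_isSeparable (E (k := k) p t Set.univ) K
  rw [eq_top_iff]
  intro x _
  obtain ⟨y, rfl⟩ := this x
  exact y.2

/-- **the degree of `K` over `k K ^ p`**, for `K` separably generated over `k`. -/
theorem finrank_eq [Fintype ι] (ht : AlgebraicIndependent k t)
    [Algebra.IsSeparable (IntermediateField.adjoin k (Set.range t)) K] :
    Module.finrank (IntermediateField.adjoin k (Set.range (fun x : K => x ^ p))) K = p ^ Fintype.card ι := by
  have h := relfinrank_finset (k := k) p ht Finset.univ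
  rw [Finset.coe_univ, E_univ, IntermediateField.relfinrank_top_right, Finset.card_univ] at h
  rw [← h]
  unfold E
  rw [Set.image_empty, Set.union_empty]

end Main

end K430.PDeg
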