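import Groth.Agent.Models.H38.SecDiv
import Groth.Agent.Grpsch.PicGrp
import Groth.Agent.Ega3B.PullTensor
import Groth.Agent.CycB.StalkExact
import Groth.Agent.CycB.ModStalk
import Groth.Agent.PerfC.TensRestr
import Groth.Agent.Fga.PicMon
import Groth.Agent.Divis.CartierBasic
import Groth.Agent.RefCh.K939.ExtStalk
import Groth.Agent.RefCh.K939.DetLen
import Groth.Agent.RefCh.K939.ExtIdx

/-!
# The divisor of a homomorphism of invertible modules

`exists_div`: on an integral scheme, a homomorphism `v : L' ⟶ L` of invertible modules which is nonzero at the generic point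
has an effective Cartier divisor `K`: `L ⊗ I_K ≅ L'` and `I_K` is generated at `x` by the coefficient of `v_x`.
`exists_det_div`: for `φ : F' ⟶ F` with top exterior powers `L'`, `L`, the ideal `I_K` is generated at `x` by `det φ_x`.
-/

set_option autoImplicit false
universe u

open CategoryTheory CategoryTheory.Limits AlgebraicGeometry Opposite TopologicalSpace

namespace K430.DivHom

open Groth.Agent Groth.Agent.CycB.StalkExact
open Groth.Agent.Fdesc.LocGen hiding tmul smul_tmul tmul_smul add_tmul tmul_add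
open Groth.Agent.Ega2.Tens (tmul smul_tmul)
open Groth.Agent.PerfC.TensRestr Groth.Agent.Fga.PicMon Groth.Agent.Divis.CartierBasic

variable {X : Scheme.{u}}

/-- the section of `L ⊗ P` attached to `v : L' ⟶ L` and `θ : L' ⊗ P ≅ O`. -/
noncomputable def secOf {L' L P : X.Modules} (v : L' ⟶ L) (θ : CohB1.tensorMod L' P ≅ Coh.structureModule X) :
    Γ(CohB1.tensorMod L P, ⊤) :=
  ((DCoh.tensorBi.map v).app P).app ⊤ (θ.inv.app ⊤ (one ⊤))

theorem secOf_local {L' L P : X.Modules} (v : L' ⟶ L) (θ : CohB1.tensorMod L' P ≅ Coh.structureModule X)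
    {W : X.Opens} {e' : Γ(L', W)} {e : Γ(L, W)} {p : Γ(P, W)} (he' : IsGen e') (hp : IsGen p) {a : Γ(X, W)}
    (h : v.app W e' = a • e) :
    ∃ c : Γ(X, W), IsUnit c ∧ res (CohB1.tensorMod L P) le_top (secOf v θ) = (c * a) • tmul e p := by
  have h1 : IsGen (θ.inv.app W (one W)) := IsGen.app θ.inv (isGen_one W)
  have h2 : IsGen (tmul e' p) := Ega3B.PullTensor.isGen_tmul he' hp
  obtain ⟨c, hc, hcu⟩ := h2.exists_unit h1
  refine ⟨c, hc, ?_⟩
  have h3 : res (CohB1.tensorMod L P) le_top (secOf v θ) =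
      ((DCoh.tensorBi.map v).app P).app W (θ.inv.app W (one W)) := by
    have h4 := app_res ((DCoh.tensorBi.map v).app P) (le_top : W ≤ ⊤) (θ.inv.app ⊤ (one ⊤))
    have h5 := app_res θ.inv (le_top : W ≤ ⊤) (one ⊤)
    rw [res_one] at h5
    refine h4.symm.trans ?_
    exact congrArg _ h5.symm
  rw [h3, hcu]
  have h6 := Scheme.Modules.Hom.app_smul ((DCoh.tensorBi.map v).app P) c (tmul e' p)
  refine h6.trans ?_
  have h7 := tensorBi_map_app_app_tm v P e' p
  have h8 : ((DCoh.tensorBi.map v).app P).app W (tmul e' p) = tmul (v.app W e') p := h7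
  rw [mul_smul]
  refine congrArg (c • ·) ?_
  refine h8.trans ?_
  rw [h, smul_tmul]

/-- A generator on a small affine neighbourhood. -/
theorem exists_gens {L' L P : X.Modules} (hL' : PicF.IsInvertible L') (hL : PicF.IsInvertible L)
    (hP : PicF.IsInvertible P) (x : X) {U : X.Opens} (hx : x ∈ U) :
    ∃ (W : X.affineOpens) (_ : W.1 ≤ U) (_ : x ∈ W.1) (e' : Γ(L', W.1)) (e : Γ(L, W.1)) (p : Γ(P, W.1)),
      IsGen e' ∧ IsGen e ∧ IsGen p := by
  obtain ⟨U₁, e₁, h₁, he₁⟩ := (isInvertible_iff L').1 hL' x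
  obtain ⟨U₂, e₂, h₂, he₂⟩ := (isInvertible_iff L).1 hL x
  obtain ⟨U₃, e₃, h₃, he₃⟩ := (isInvertible_iff P).1 hP x
  obtain ⟨_, ⟨W, hW, rfl⟩, hxW, hle⟩ := X.isBasis_affineOpens.exists_subset_of_mem_open
    (show x ∈ ((U ⊓ (U₁ ⊓ (U₂ ⊓ U₃)) : X.Opens) : Set X) from ⟨hx, h₁, h₂, h₃⟩) (U ⊓ (U₁ ⊓ (U₂ ⊓ U₃))).isOpen
  have hle' : W ≤ U ⊓ (U₁ ⊓ (U₂ ⊓ U₃)) := hle
  refine ⟨⟨W, hW⟩, hle'.trans inf_le_left, hxW, _, _, _, he₁.res (hle'.trans (inf_le_right.trans inf_le_left)),
    he₂.res (hle'.trans (inf_le_right.trans (inf_le_right.trans inf_le_left))),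
    he₃.res (hle'.trans (inf_le_right.trans (inf_le_right.trans inf_le_right)))⟩

theorem coeff_ne_zero [IsIntegral X] {L' L : X.Modules} (v : L' ⟶ L)
    (hv : stalkLin v (genericPoint X) ≠ 0) {W : X.Opens} (hW : genericPoint X ∈ W) {e' : Γ(L', W)} {e : Γ(L, W)}
    (he' : IsGen e') {a : Γ(X, W)} (h : v.app W e' = a • e) : a ≠ 0 := by
  rintro rfl
  apply hv
  ext s
  obtain ⟨U, hU, s, rfl⟩ := L'.presheaf.exists_germ_eq s
  rw [LinearMap.zero_apply]
  have hUW : genericPoint X ∈ U ⊓ W := ⟨hU, hW⟩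
  have h1 : L'.presheaf.germ U _ hU s = L'.presheaf.germ (U ⊓ W) _ hUW (res L' inf_le_left s) :=
    (TopCat.Presheaf.germ_res_apply L'.presheaf (homOfLE inf_le_left) _ _ _).symm
  obtain ⟨b, hb⟩ := (he'.res (inf_le_right : U ⊓ W ≤ W)).exists_eq (res L' inf_le_left s)
  rw [h1, hb, stalkLin_germ, Scheme.Modules.Hom.app_smul, app_res, h, zero_smul, map_zero, smul_zero, map_zero]

/-- **The divisor of a homomorphism of invertible modules.** -/
theorem exists_div [IsIntegral X] {L' L : X.Modules} (hL' : PicF.IsInvertible L') (hL : PicF.IsInvertible L)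
    (v : L' ⟶ L) (hv : stalkLin v (genericPoint X) ≠ 0) :
    ∃ K : X.IdealSheafData, BlowUp.IsEffCartierIdeal K ∧
      Nonempty (CohB1.tensorMod L (ClSub.idealMod K) ≅ L') ∧
      ∀ (x : X) (U : X.Opens) (hx : x ∈ U) (e' : Γ(L', U)) (e : Γ(L, U)) (a : Γ(X, U)), IsGen e' → IsGen e →
        v.app U e' = a • e → stalkIdeal K x = Ideal.span {X.presheaf.germ U x hx a} := by
  obtain ⟨P, hP, ⟨θ⟩⟩ := Grpsch.PicGrp.exists_inverse hL'
  have hM : PicF.IsInvertible (CohB1.tensorMod L P) := Fdesc.LocGen.isInvertible_tensorMod hL hP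
  obtain ⟨K, hK, hinv, hgen⟩ := Models.H38.SecDiv.exists_divisor hM (secOf v θ) (by
    intro U e a he hea
    by_cases hU : (U.1 : Set X).Nonempty
    · have hη : genericPoint X ∈ U.1 := ((genericPoint_spec X).mem_open_set_iff U.1.isOpen).mpr (by
        obtain ⟨y, hy⟩ := hU
        exact ⟨y, trivial, hy⟩)
      have hne : Nonempty U.1 := ⟨⟨_, hη⟩⟩
      rw [mem_nonZeroDivisors_iff_ne_zero]
      rintro rfl
      obtain ⟨W, hWU, hηW, e₁', e₁, p₁, he₁', he₁, hp₁⟩ := exists_gens hL' hL hP (genericPoint X) hη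
      obtain ⟨a₁, ha₁⟩ := he₁.exists_eq (v.app W.1 e₁')
      obtain ⟨c, hc, hc'⟩ := secOf_local v θ he₁' hp₁ ha₁
      have h0 := congrArg (res (CohB1.tensorMod L P) hWU) hea
      rw [res_res, zero_smul, map_zero] at h0
      have h1 : (c * a₁) • tmul e₁ p₁ = (0 : Γ(X, W.1)) • tmul e₁ p₁ := by
        rw [zero_smul, ← hc']
        exact h0
      have h2 := (Ega3B.PullTensor.isGen_tmul he₁ hp₁).ext h1
      exact coeff_ne_zero v hv hηW he₁' ha₁ ((hc.mul_right_eq_zero).mp h2)
    · have : IsEmpty U.1 := by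
        rw [Set.not_nonempty_iff_eq_empty] at hU
        exact ⟨fun y => by have := y.2; rw [← SetLike.mem_coe, hU] at this; exact this⟩
      have hs : Subsingleton Γ(X, U.1) := by
        have hbot : U.1 = ⊥ := by
          ext y
          exact ⟨fun h => (this.false ⟨y, h⟩).elim, fun h => h.elim⟩
        rw [hbot]
        infer_instance
      rw [Subsingleton.elim a 1]
      exact one_mem _)
  refine ⟨K, hK, ?_, ?_⟩
  · have h1 : mc L * mc P * mc (ClSub.idealMod K) = 1 := mc_eq hinv.some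
    have h2 : mc L' * mc P = 1 := mc_eq θ
    rw [← mc_eq_iff, mc_tensor]
    calc mc L * mc (ClSub.idealMod K) = mc L * mc (ClSub.idealMod K) * (mc L' * mc P) := by rw [h2, mul_one]
      _ = (mc L * mc P * mc (ClSub.idealMod K)) * mc L' := by
        rw [mul_comm (mc L') (mc P), ← mul_assoc, mul_assoc (mc L) _ (mc P), mul_comm (mc (ClSub.idealMod K)) (mc P),
          ← mul_assoc]
      _ = mc L' := by rw [h1, one_mul]
  · intro x U hx e' e a he' he h
    obtain ⟨W, hWU, hxW, -, -, p, -, -, hp⟩ := exists_gens hL' hL hP x hx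
    have h1 : v.app W.1 (res L' hWU e') = ores hWU a • res L hWU e := by
      rw [app_res, h, res_smul]
    obtain ⟨c, hc, hc'⟩ := secOf_local v θ (he'.res hWU) hp h1
    have h2 := hgen W _ _ (Ega3B.PullTensor.isGen_tmul (he.res hWU) hp) hc'
    rw [stalkIdeal_eq K W hxW, h2, Ideal.map_span, Set.image_singleton]
    have h3 : (X.presheaf.germ W.1 x hxW).hom (c * ores hWU a) =
        X.presheaf.germ W.1 x hxW c * X.presheaf.germ U x hx a := by
      rw [map_mul]
      congr 1
      exact TopCat.Presheaf.germ_res_apply X.presheaf (homOfLE hWU) x hxW a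
    rw [h3]
    exact Ideal.span_singleton_mul_left_unit (hc.map (X.presheaf.germ W.1 x hxW).hom) _

/-- germs of generators generate the stalk -/
theorem exists_germ_smul {L : X.Modules} {W : X.Opens} {e : Γ(L, W)} (he : IsGen e) {x : X} (hx : x ∈ W)
    (s : L.presheaf.stalk x) : ∃ b : X.presheaf.stalk x, s = b • L.presheaf.germ W x hx e := by
  obtain ⟨U, hU, s, rfl⟩ := L.presheaf.exists_germ_eq s
  have hUW : x ∈ U ⊓ W := ⟨hU, hx⟩
  have h1 : L.presheaf.germ U _ hU s = L.presheaf.germ (U ⊓ W) _ hUW (res L inf_le_left s) :=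
    (TopCat.Presheaf.germ_res_apply L.presheaf (homOfLE inf_le_left) _ _ _).symm
  have h2 : L.presheaf.germ W _ hx e = L.presheaf.germ (U ⊓ W) _ hUW (res L inf_le_right e) :=
    (TopCat.Presheaf.germ_res_apply L.presheaf (homOfLE inf_le_right) _ _ _).symm
  obtain ⟨b, hb⟩ := (he.res (inf_le_right : U ⊓ W ≤ W)).exists_eq (res L inf_le_left s)
  refine ⟨X.presheaf.germ (U ⊓ W) x hUW b, ?_⟩
  rw [h1, h2, hb]
  exact germ_smul x hUW b _

theorem stalkIdeal_eq_of_equiv {L' L : X.Modules} (hL' : PicF.IsInvertible L') (hL : PicF.IsInvertible L)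
    (v : L' ⟶ L) {K : X.IdealSheafData}
    (hK : ∀ (x : X) (U : X.Opens) (hx : x ∈ U) (e' : Γ(L', U)) (e : Γ(L, U)) (a : Γ(X, U)), IsGen e' → IsGen e →
        v.app U e' = a • e → stalkIdeal K x = Ideal.span {X.presheaf.germ U x hx a}) (x : X)
    (ε' : L'.presheaf.stalk x ≃ₗ[X.presheaf.stalk x] X.presheaf.stalk x)
    (ε : L.presheaf.stalk x ≃ₗ[X.presheaf.stalk x] X.presheaf.stalk x) :
    stalkIdeal K x = Ideal.span {ε (stalkLin v x (ε'.symm 1))} := by
  obtain ⟨W, -, hxW, e', e, -, he', he, -⟩ := exists_gens hL' hL hL x (U := ⊤) trivial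
  obtain ⟨a, ha⟩ := he.exists_eq (v.app W.1 e')
  rw [hK x W.1 hxW e' e a he' he ha]
  have hgen : ∀ {M : X.Modules} (η : M.presheaf.stalk x ≃ₗ[X.presheaf.stalk x] X.presheaf.stalk x) {m : Γ(M, W.1)}
      (_ : IsGen m), IsUnit (η (M.presheaf.germ W.1 x hxW m)) := by
    intro M η m hm
    obtain ⟨b, hb⟩ := exists_germ_smul hm hxW (η.symm 1)
    have h1 := congrArg η hb
    rw [LinearEquiv.apply_symm_apply, map_smul, smul_eq_mul] at h1
    exact IsUnit.of_mul_eq_one_right b h1.symm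
  have hu' := hgen ε' he'
  have hu := hgen ε he
  have h1 : L'.presheaf.germ W.1 x hxW e' = ε' (L'.presheaf.germ W.1 x hxW e') • ε'.symm 1 := by
    apply ε'.injective
    rw [map_smul, LinearEquiv.apply_symm_apply, smul_eq_mul, mul_one]
  have h2 : stalkLin v x (L'.presheaf.germ W.1 x hxW e') =
      X.presheaf.germ W.1 x hxW a • L.presheaf.germ W.1 x hxW e := by
    rw [stalkLin_germ, ha]
    exact germ_smul x hxW a e
  have h3 := congrArg ε h2
  rw [h1, map_smul, map_smul, map_smul, smul_eq_mul, smul_eq_mul] at h3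
  rw [← Ideal.span_singleton_mul_right_unit hu, ← h3, Ideal.span_singleton_mul_left_unit hu']

open Groth.Agent.Sga67.ExtSheaf K939 in
/-- **The determinant divisor.** -/
theorem exists_det_div [IsIntegral X] {n : ℕ} {F' F L' L : X.Modules} (hF' : Coh.IsQCoh F') (hF : Coh.IsQCoh F)
    (hL' : ExtPow.IsExtPow n F' L') (hL : ExtPow.IsExtPow n F L) (hI' : PicF.IsInvertible L')
    (hI : PicF.IsInvertible L) (φ : F' ⟶ F) (hφ : Function.Bijective (stalkLin φ (genericPoint X))) :
    ∃ K : X.IdealSheafData, BlowUp.IsEffCartierIdeal K ∧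
      Nonempty (CohB1.tensorMod L (ClSub.idealMod K) ≅ L') ∧
      ∀ (x : X) (b : Module.Basis (Fin n) (X.presheaf.stalk x) (F'.presheaf.stalk x))
        (c : Module.Basis (Fin n) (X.presheaf.stalk x) (F.presheaf.stalk x)),
        stalkIdeal K x = Ideal.span {c.det (stalkLin φ x ∘ b)} := by
  obtain ⟨Φ, hΦ⟩ := exists_phi hL'
  obtain ⟨Ψ, hΨ⟩ := exists_phi hL
  obtain ⟨v, hv⟩ := exists_extMap φ Φ hΦ Ψ hΨ
  have hq' := ExtStalk.isQCoh_of_isExtPow hF' hL'
  have hq := ExtStalk.isQCoh_of_isExtPow hF hL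
  have hsame := ExtStalk.sameMap_ext hF' hF hq' hq Φ Ψ φ v hv
  have hv0 : stalkLin v (genericPoint X) ≠ 0 := by
    obtain ⟨e, e', he⟩ := hsame (genericPoint X)
    obtain ⟨t, ht⟩ := CycB.ModStalk.exists_isGen hI' (genericPoint X)
    let ε' : L'.presheaf.stalk (genericPoint X) ≃ₗ[X.presheaf.stalk (genericPoint X)]
        X.presheaf.stalk (genericPoint X) :=
      (LinearEquiv.ofBijective (LinearMap.toSpanSingleton (X.presheaf.stalk (genericPoint X)) _ t) ht).symm
    intro h0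
    have h1 : ε'.symm 1 = 0 := by
      apply e.injective
      have h2 := he (ε'.symm 1)
      rw [h0, LinearMap.zero_apply, map_zero] at h2
      have hb : Function.Bijective (exteriorPower.map n (stalkLin φ (genericPoint X))) := ExtIdx.bijective_map n _ hφ
      rw [map_zero]
      exact hb.1 (by rw [← h2, map_zero])
    have h2 := congrArg ε' h1
    rw [LinearEquiv.apply_symm_apply, map_zero] at h2
    exact one_ne_zero h2
  obtain ⟨K, hK, hiso, hgen⟩ := exists_div hI' hI v hv0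
  refine ⟨K, hK, hiso, fun x b c => ?_⟩
  obtain ⟨e, e', he⟩ := hsame x
  let ε' := e.trans (LinearEquiv.ofBijective (DetLen.topMap b) (DetLen.topMap_bijective b))
  let ε := e'.trans (LinearEquiv.ofBijective (DetLen.topMap c) (DetLen.topMap_bijective c))
  rw [stalkIdeal_eq_of_equiv hI' hI v hgen x ε' ε]
  have h1 : ε (stalkLin v x (ε'.symm 1)) = c.det (stalkLin φ x ∘ b) * DetLen.topMap b (e (ε'.symm 1)) := by
    change DetLen.topMap c (e' (stalkLin v x (ε'.symm 1))) = _
    rw [he, DetLen.topMap_map b c]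
  have h2 : DetLen.topMap b (e (ε'.symm 1)) = 1 := ε'.apply_symm_apply 1
  rw [h1, h2, mul_one]

end K430.DivHom
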