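import Groth.Agent.OmegaSh.K583.DerFunct
import Groth.Agent.OmegaSh.K583.StalkDer
import Groth.Agent.Variety.K430.DivHom
import Mathlib.RingTheory.Unramified.LocalStructure
import Mathlib.AlgebraicGeometry.Morphisms.QuasiFinite

/-!
# The canonical map `h^* Ω_X ⟶ Ω_{X'}` on stalks

* `stalkLin_canAdd`, `range_stalkLin`: the image of the stalk of the canonical map is spanned by the `d' (h♯ a)`.
* `surjective_of_surjective`: it is surjective where `h` is surjective on local rings.
* `quasiFiniteAt_of_surjective`: where it is surjective, `h` is quasi-finite.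
* `basis_of_span`, `stalkIdeal_eq_det`.
-/

set_option autoImplicit false
universe u

open CategoryTheory CategoryTheory.Limits AlgebraicGeometry Opposite TopologicalSpace

namespace K430.DiffStalk

open Groth.Agent Groth.Agent.CycB.StalkExact Groth.Agent.Fdesc.PullbackStalk OmegaSh K583.DerFunct K583.StalkDer
open K583.AlgUniv

section span

variable {X X' : Scheme.{u}} (h : X' ⟶ X)

theorem span_can (M : X.Modules) (x : X') (S : Set (M.presheaf.stalk (h x)))
    (hS : Submodule.span (X.presheaf.stalk (h x)) S = ⊤) :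
    Submodule.span (X'.presheaf.stalk x) (canAdd h M x '' S) = ⊤ := by
  rw [eq_top_iff, ← span_range_canAdd h M x, Submodule.span_le]
  rintro _ ⟨t, rfl⟩
  have ht : t ∈ Submodule.span (X.presheaf.stalk (h x)) S := by rw [hS]; trivial
  induction ht using Submodule.span_induction with
  | mem t ht => exact Submodule.subset_span ⟨t, ht, rfl⟩
  | zero => rw [map_zero]; exact zero_mem _
  | add s t _ _ hs ht => rw [map_add]; exact add_mem hs ht
  | smul r t _ ht =>
    have e := canAdd_smul h M x r t
    rw [SetLike.mem_coe] at ht ⊢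
    rw [e]
    exact Submodule.smul_mem _ _ ht

end span

section stalk

variable {X Y X' Y' : Scheme.{u}} {f : X ⟶ Y} {f' : X' ⟶ Y'} {h : X' ⟶ X} {Ω : X.Modules} {d : Der f Ω}
  {Ω' : X'.Modules} {d' : Der f' Ω'} {c : (Scheme.Modules.pullback h).obj Ω ⟶ Ω'}

theorem stalkLin_canAdd (hc : IsDiffCompat h d d' c) (x : X') (a : X.presheaf.stalk (h x)) :
    stalkLin c x (canAdd h Ω x (stalkDer d (h x) a)) = stalkDer d' x (h.stalkMap x a) :=
  stalkMap_isDiffCompat hc x a

theorem span_stalkDer (hd : IsUniversal d) (x : X) :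
    Submodule.span (X.presheaf.stalk x) (Set.range (stalkDer d x)) = ⊤ :=
  (isAlgUniv_stalkDer hd x).span_eq_top

theorem range_stalkLin (hd : IsUniversal d) (hc : IsDiffCompat h d d' c) (x : X') :
    LinearMap.range (stalkLin c x) =
      Submodule.span (X'.presheaf.stalk x) (Set.range fun a => stalkDer d' x (h.stalkMap x a)) := by
  rw [LinearMap.range_eq_map, ← span_can h Ω x _ (span_stalkDer hd (h x)), Submodule.map_span]
  congr 1
  ext y
  constructor
  · rintro ⟨_, ⟨_, ⟨a, rfl⟩, rfl⟩, rfl⟩
    exact ⟨a, (stalkLin_canAdd hc x a).symm⟩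
  · rintro ⟨a, rfl⟩
    exact ⟨_, ⟨_, ⟨a, rfl⟩, rfl⟩, stalkLin_canAdd hc x a⟩

theorem surjective_of_surjective (hd : IsUniversal d) (hd' : IsUniversal d') (hc : IsDiffCompat h d d' c) (x : X')
    (hs : Function.Surjective (h.stalkMap x)) : Function.Surjective (stalkLin c x) := by
  rw [← LinearMap.range_eq_top, range_stalkLin hd hc, eq_top_iff, ← span_stalkDer hd' x, Submodule.span_le]
  rintro _ ⟨b, rfl⟩
  obtain ⟨a, rfl⟩ := hs b
  exact Submodule.subset_span ⟨a, rfl⟩

end stalk

section quasiFinite

variable {X X' Y : Scheme.{u}} {f : X ⟶ Y} {h : X' ⟶ X} {Ω : X.Modules} {d : Der f Ω}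
  {Ω' : X'.Modules} {d' : Der (h ≫ f) Ω'} {c : (Scheme.Modules.pullback h).obj Ω ⟶ Ω'}

/-- Where the canonical map is surjective, `h` is quasi-finite. -/
theorem quasiFiniteAt_of_surjective [LocallyOfFiniteType h] (hd : IsUniversal d) (hd' : IsUniversal d')
    (hc : IsDiffCompat h d d' c) (x : X') (hs : Function.Surjective (stalkLin c x)) : h.QuasiFiniteAt x := by
  have h1 : (h.stalkMap x).hom.EssFiniteType := LocallyOfFiniteType.stalkMap h x
  let := (h.stalkMap x).hom.toAlgebra
  have h3 : Algebra.EssFiniteType (X.presheaf.stalk (h x)) (X'.presheaf.stalk x) := h1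
  have hD : IsDer ((h ≫ f).stalkMap x).hom
      (KaehlerDifferential.D (X.presheaf.stalk (h x)) (X'.presheaf.stalk x)).toLinearMap.toAddMonoidHom := by
    refine ⟨fun a b => ?_, fun a => ?_⟩
    · exact (KaehlerDifferential.D (X.presheaf.stalk (h x)) (X'.presheaf.stalk x)).leibniz a b
    · rw [Scheme.Hom.stalkMap_comp]
      exact (KaehlerDifferential.D (X.presheaf.stalk (h x)) (X'.presheaf.stalk x)).map_algebraMap _
  obtain ⟨g, hg, -⟩ := (isAlgUniv_stalkDer hd' x).lift _ _ hD
  have hg0 : g = 0 := by
    rw [← LinearMap.ker_eq_top, eq_top_iff, ← LinearMap.range_eq_top.mpr hs, range_stalkLin hd hc, Submodule.span_le]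
    rintro _ ⟨a, rfl⟩
    refine (hg _).trans ?_
    exact (KaehlerDifferential.D (X.presheaf.stalk (h x)) (X'.presheaf.stalk x)).map_algebraMap a
  have h4 : Algebra.FormallyUnramified (X.presheaf.stalk (h x)) (X'.presheaf.stalk x) := by
    rw [Algebra.formallyUnramified_iff]
    refine ⟨fun a b => ?_⟩
    have key : ∀ a : Ω[X'.presheaf.stalk x⁄X.presheaf.stalk (h x)], a = 0 := by
      intro a
      have ha : a ∈ Submodule.span (X'.presheaf.stalk x)
          (Set.range (KaehlerDifferential.D (X.presheaf.stalk (h x)) (X'.presheaf.stalk x))) := by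
        rw [KaehlerDifferential.span_range_derivation]
        trivial
      induction ha using Submodule.span_induction with
      | mem t ht =>
        obtain ⟨b, rfl⟩ := ht
        have := hg b
        rw [hg0] at this
        exact this.symm
      | zero => rfl
      | add s t _ _ hs ht => rw [hs, ht, add_zero]
      | smul r t _ ht => rw [ht, smul_zero]
    rw [key a, key b]
  have h5 : Algebra.QuasiFinite (X.presheaf.stalk (h x)) (X'.presheaf.stalk x) := inferInstance
  exact h5

end quasiFinite

section lin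

variable {R : Type*} [CommRing R] {M : Type*} [AddCommGroup M] [Module R M] {ι : Type*} [Fintype ι]

/-- A spanning family with as many elements as the rank is a basis. -/
theorem basis_of_span {n : ℕ} (b₀ : Module.Basis (Fin n) R M) (hcard : Fintype.card ι = n) (v : ι → M)
    (hv : Submodule.span R (Set.range v) = ⊤) : ∃ b : Module.Basis ι R M, ⇑b = v := by
  classical
  let e : ι ≃ Fin n := Fintype.equivFinOfCardEq hcard
  let b₁ : Module.Basis ι R M := b₀.reindex e.symm
  let T : M →ₗ[R] M := b₁.constr R v
  have hT : Function.Surjective T := by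
    rw [← LinearMap.range_eq_top, b₁.constr_range, hv]
  have : Module.Finite R M := Module.Finite.of_basis b₀
  have hTi : Function.Injective T := OrzechProperty.injective_of_surjective_endomorphism T hT
  refine ⟨b₁.map (LinearEquiv.ofBijective T ⟨hTi, hT⟩), ?_⟩
  funext i
  rw [Module.Basis.map_apply]
  exact b₁.constr_basis R v i

theorem isUnit_det_iff {n : ℕ} {N : Type*} [AddCommGroup N] [Module R N] (b : Module.Basis (Fin n) R M)
    (c : Module.Basis (Fin n) R N) (φ : M →ₗ[R] N) : IsUnit (c.det (φ ∘ b)) ↔ Function.Surjective φ := by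
  rw [← Module.Basis.is_basis_iff_det]
  have h1 : Submodule.span R (Set.range (φ ∘ b)) = LinearMap.range φ := by
    rw [Set.range_comp, ← Submodule.map_span, b.span_eq, LinearMap.range_eq_map]
  rw [h1, LinearMap.range_eq_top]
  constructor
  · exact fun h => h.2
  · intro h
    refine ⟨?_, h⟩
    obtain ⟨b', hb'⟩ := basis_of_span c (Fintype.card_fin n) (φ ∘ b) (by rw [h1, LinearMap.range_eq_top]; exact h)
    rw [← hb']
    exact b'.linearIndependent

theorem det_reindex' [DecidableEq ι] {n : ℕ} {N : Type*} [AddCommGroup N] [Module R N] (b : Module.Basis ι R M)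
    (c : Module.Basis ι R N) (φ : M →ₗ[R] N) (e : ι ≃ Fin n) :
    (c.reindex e).det (φ ∘ b.reindex e) = c.det (φ ∘ b) := by
  rw [Module.Basis.det_reindex]
  congr 1
  funext i
  simp

end lin

end K430.DiffStalk
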