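import Groth.Agent.Variety.K430.Frob
import Groth.Agent.Variety.K430.PDeg
import Groth.Agent.Ega2.CurveFF
import Groth.Agent.VarietyA.GeomRed
import Groth.Agent.VarietyA.SepGen
import Groth.Agent.Pi1.H390.ResGen
import Groth.Agent.CycB.RelDim
import Mathlib.AlgebraicGeometry.Geometrically.Reduced

/-!
# The degree of the relative Frobenius of a geometrically reduced variety
-/

set_option autoImplicit false

universe u

open CategoryTheory CategoryTheory.Limits AlgebraicGeometry

namespace K430.FrobDeg

attribute [local instance] Curv2.resAlgebra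

section Gen

variable (p : ℕ) [Fact p.Prime] {X S : Scheme.{u}} [FrobSch.IsCharP S p] (f : X ⟶ S)

theorem range_of_eq_frob [FrobSch.IsCharP X p] (g : X ⟶ X) (hg : g = FrobSch.frob X p) (x : X) :
    Set.range (g.residueFieldMap x).hom = Set.range (fun a : X.residueField x => a ^ p) := by
  subst hg
  ext a
  constructor
  · rintro ⟨b, rfl⟩
    exact ⟨b, (K430.Frob.frob_residueFieldMap X p x b).symm⟩
  · rintro ⟨b, rfl⟩
    exact ⟨b, K430.Frob.frob_residueFieldMap X p x b⟩

theorem range_congr {Y : Scheme.{u}} {g g' : X ⟶ Y} (hg : g = g') (x : X) :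
    Set.range (g.residueFieldMap x).hom = Set.range (g'.residueFieldMap x).hom := by
  subst hg; rfl

/-- The residue field of the image point under the relative Frobenius. -/
theorem fieldRange_eq (x : X) :
    ((FrobSch.relFrob f p).residueFieldMap x).hom.fieldRange =
      Subfield.closure (Set.range (fun a : X.residueField x => a ^ p) ∪ Set.range (f.residueFieldMap x).hom) := by
  have : FrobSch.IsCharP X p := FrobSch.IsCharP.of_hom f p
  have h := Groth.Agent.Pi1.H390.ResGen.closure_residueFieldMap (f := f) (g := FrobSch.frob S p)
    (FrobSch.relFrob f p x)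
  have h1 := congrArg (Subfield.map ((FrobSch.relFrob f p).residueFieldMap x).hom) h
  rw [← RingHom.fieldRange_eq_map, RingHom.map_field_closure, Set.image_union, ← Set.range_comp, ← Set.range_comp] at h1
  rw [← h1]
  congr 2
  · rw [← range_of_eq_frob p _ (FrobSch.relFrob_fst f p) x, Scheme.residueFieldMap_comp]
    rfl
  · rw [← range_congr (FrobSch.relFrob_snd f p) x, Scheme.residueFieldMap_comp]
    rfl

end Gen

section Field

variable (k : Type u) [Field k] {X : Scheme.{u}} [X.Over (Spec (CommRingCat.of k))]

theorem range_resMap (x : X) :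
    Set.range ((X ↘ Spec (CommRingCat.of k)).residueFieldMap x).hom = Set.range (Curv2.resMap k X x) := by
  set f := (X ↘ Spec (CommRingCat.of k)) with hf
  have hF : IsField Γ(Spec (CommRingCat.of k), ⊤) :=
    ((Scheme.ΓSpecIso (CommRingCat.of k)).commRingCatIsoToRingEquiv.toMulEquiv.isField (Field.toIsField k))
  -- the evaluation map is surjective
  have hsurj : Function.Surjective ((Spec (CommRingCat.of k)).evaluation ⊤ (f x) trivial).hom := by
    intro z
    obtain ⟨a, b, hb, h⟩ := Groth.Agent.CycB.RelDim.fracGen_evaluation (isAffineOpen_top (Spec (CommRingCat.of k)))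
      (f x) trivial z
    have hb0 : b ≠ 0 := by
      rintro rfl
      exact hb (map_zero _)
    obtain ⟨c, hc⟩ := hF.mul_inv_cancel hb0
    refine ⟨a * c, ?_⟩
    have h1 := congrArg ((Spec (CommRingCat.of k)).evaluation ⊤ (f x) trivial).hom hc
    rw [map_mul, map_one] at h1
    rw [map_mul, ← h, mul_assoc, h1, mul_one]
  have hsurj2 : Function.Surjective (Scheme.ΓSpecIso (CommRingCat.of k)).inv.hom :=
    (ConcreteCategory.bijective_of_isIso (Scheme.ΓSpecIso (CommRingCat.of k)).inv).2
  have key : ∀ c : k, Curv2.resMap k X x c = (f.residueFieldMap x).hom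
      (((Spec (CommRingCat.of k)).evaluation ⊤ (f x) trivial).hom
        ((Scheme.ΓSpecIso (CommRingCat.of k)).inv.hom c)) := by
    intro c
    have := Scheme.evaluation_naturality_apply f (V := ⊤) x trivial ((Scheme.ΓSpecIso (CommRingCat.of k)).inv.hom c)
    exact this.symm
  ext z
  constructor
  · rintro ⟨w, rfl⟩
    obtain ⟨a, rfl⟩ := hsurj w
    obtain ⟨c, rfl⟩ := hsurj2 a
    exact ⟨c, key c⟩
  · rintro ⟨c, rfl⟩
    exact ⟨_, (key c).symm⟩

/-- The residue degree of the relative Frobenius in terms of the residue field of the point. -/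
theorem residueDegree_eq (p : ℕ) [Fact p.Prime] [CharP k p] (x : X) :
    (FrobSch.relFrob (X ↘ Spec (CommRingCat.of k)) p).residueDegree x =
      Module.finrank (IntermediateField.adjoin k (Set.range (fun a : X.residueField x => a ^ p)))
        (X.residueField x) := by
  set r := FrobSch.relFrob (X ↘ Spec (CommRingCat.of k)) p with hr
  have h1 : (r.residueFieldMap x).hom.fieldRange =
      (IntermediateField.adjoin k (Set.range (fun a : X.residueField x => a ^ p))).toSubfield := by
    rw [hr, fieldRange_eq, range_resMap]
    change _ = Subfield.closure (Set.range (algebraMap k (X.residueField x)) ∪ _)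
    rw [Set.union_comm]
    rfl
  let φ : (FrobSch.frobTwist (X ↘ Spec (CommRingCat.of k)) p).residueField (r x) →+* X.residueField x :=
    (r.residueFieldMap x).hom
  have hmem : ∀ z, φ z ∈ IntermediateField.adjoin k (Set.range (fun a : X.residueField x => a ^ p)) := by
    intro z
    have : φ z ∈ φ.fieldRange := ⟨z, rfl⟩
    rw [h1] at this
    exact this
  let e : (FrobSch.frobTwist (X ↘ Spec (CommRingCat.of k)) p).residueField (r x) →+*
      IntermediateField.adjoin k (Set.range (fun a : X.residueField x => a ^ p)) := φ.codRestrict _ hmem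
  have he : Function.Bijective e := by
    refine ⟨e.injective, ?_⟩
    rintro ⟨z, hz⟩
    have : z ∈ φ.fieldRange := by rw [h1]; exact hz
    obtain ⟨w, hw⟩ := this
    exact ⟨w, Subtype.ext hw⟩
  let _ := φ.toAlgebra
  exact Algebra.finrank_eq_of_equiv_equiv (RingEquiv.ofBijective e he) (RingEquiv.refl _) rfl

end Field

section Main

variable (k : Type u) [Field k] (X : Scheme.{u}) [X.Over (Spec (CommRingCat.of k))] [IsIntegral X]

attribute [local instance] Curv2.stalkAlgebra Groth.Agent.Ega2.CurveFF.fieldStalk

/-- The residue field at the generic point is the function field. -/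
noncomputable def resEquiv : X.presheaf.stalk (genericPoint X) ≃ₐ[k] X.residueField (genericPoint X) :=
  AlgEquiv.ofRingEquiv (f := RingEquiv.ofBijective (X.residue (genericPoint X)).hom
    ⟨(X.residue (genericPoint X)).hom.injective, X.residue_surjective _⟩) fun _ ↦ rfl

theorem isReduced_tensor [GeometricallyReduced (X ↘ Spec (CommRingCat.of k))] :
    IsReduced (TensorProduct k (AlgebraicClosure k) (X.residueField (genericPoint X))) := by
  have h1 : Algebra.IsGeometricallyReduced k (X.presheaf.stalk (genericPoint X)) :=
    (Groth.Agent.VarietyA.GeomRed.geometricallyReduced_iff_functionField k X).mp inferInstance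
  have h2 : Algebra.IsGeometricallyReduced k (X.residueField (genericPoint X)) :=
    Algebra.IsGeometricallyReduced.of_injective (resEquiv k X).symm.toAlgHom (resEquiv k X).symm.injective
  exact (Algebra.isGeometricallyReduced_field_iff k _).mp h2

theorem essFiniteType [LocallyOfFiniteType (X ↘ Spec (CommRingCat.of k))] :
    Algebra.EssFiniteType k (X.residueField (genericPoint X)) := by
  have h1 : Algebra.EssFiniteType k (X.presheaf.stalk (genericPoint X)) :=
    IntermediateField.fg_top_iff.mp (Groth.Agent.Ega2.CurveFF.fg_top k X)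
  exact Algebra.EssFiniteType.of_surjective (resEquiv k X).toAlgHom (resEquiv k X).surjective

omit [IsIntegral X] in
theorem charP_residueField (p : ℕ) [Fact p.Prime] [CharP k p] (x : X) : CharP (X.residueField x) p :=
  charP_of_injective_ringHom (Curv2.resMap k X x).injective p

theorem residueDegree_genericPoint [LocallyOfFiniteType (X ↘ Spec (CommRingCat.of k))]
    [GeometricallyReduced (X ↘ Spec (CommRingCat.of k))] (p : ℕ) [Fact p.Prime] [CharP k p] (d : ℕ)
    (hd : topologicalKrullDim X = d) :
    (FrobSch.relFrob (X ↘ Spec (CommRingCat.of k)) p).residueDegree (genericPoint X) = p ^ d := by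
  have := isReduced_tensor k X
  have := essFiniteType k X
  have := charP_residueField k X p (genericPoint X)
  obtain ⟨s, hs, hsep⟩ := Groth.Agent.VarietyA.SepGen.exists_isTranscendenceBasis_isSeparable k
    (X.residueField (genericPoint X)) inferInstance
  have hsep' : Algebra.IsSeparable (IntermediateField.adjoin k
      (Set.range (Subtype.val : s → X.residueField (genericPoint X)))) (X.residueField (genericPoint X)) := by
    convert! hsep <;> simp
  rw [residueDegree_eq, K430.PDeg.finrank_eq p hs.1]
  have h1 : topologicalKrullDim X = Groth.Agent.VarietyB.DimSch.trd k X (genericPoint X) :=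
    Groth.Agent.VarietyB.DimSch.topologicalKrullDim_eq_trd k
  have h2 : Groth.Agent.VarietyB.DimSch.trd k X (genericPoint X) = d := by
    rw [hd] at h1
    exact_mod_cast h1.symm
  have h3 := Groth.Agent.VarietyB.DimSch.trdeg_eq_trd k (X := X) (genericPoint X)
  rw [h2, ← hs.cardinalMk_eq_trdeg] at h3
  rw [Cardinal.mk_fintype] at h3
  congr 1
  exact_mod_cast h3

end Main

/-- The Frobenius twist of a geometrically reduced irreducible scheme over a field is integral. -/
theorem isIntegral_frobTwist (k : Type u) [Field k] (X : Scheme.{u}) [X.Over (Spec (CommRingCat.of k))]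
    [IsIntegral X] [GeometricallyReduced (X ↘ Spec (CommRingCat.of k))] (p : ℕ) [Fact p.Prime] [CharP k p] :
    IsIntegral (FrobSch.frobTwist (X ↘ Spec (CommRingCat.of k)) p) := by
  have hred : IsReduced (FrobSch.frobTwist (X ↘ Spec (CommRingCat.of k)) p) := inferInstance
  have hirr : IrreducibleSpace (FrobSch.frobTwist (X ↘ Spec (CommRingCat.of k)) p) := by
    have h := Groth.Agent.FlatA.UnivHomeo.isHomeomorph_of_isUnivHomeo
      (K430.Frob.relFrob_isUnivHomeo p (X ↘ Spec (CommRingCat.of k)))
    have h1 : IsIrreducible (Set.univ : Set (FrobSch.frobTwist (X ↘ Spec (CommRingCat.of k)) p)) := by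
      rw [← Set.image_univ_of_surjective h.surjective]
      exact (IrreducibleSpace.isIrreducible_univ X).image _ h.continuous.continuousOn
    exact (irreducibleSpace_def _).mpr h1
  exact isIntegral_of_irreducibleSpace_of_isReduced _

end K430.FrobDeg
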