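import Groth.Agent.Variety.K430.Frob
import Groth.Prelude.Def_Omega3
import Mathlib.AlgebraicGeometry.Morphisms.Flat

/-!
# Derivations kill the functions coming from the Frobenius twist
-/

set_option autoImplicit false

universe u

open CategoryTheory CategoryTheory.Limits AlgebraicGeometry Opposite TopologicalSpace

namespace K430.FrobDer

/-- A subring of the pushout containing both images is everything. -/
lemma eq_top_of_isPushout {A B C D : CommRingCat.{u}} {f : A ⟶ B} {g : A ⟶ C} {i : B ⟶ D} {j : C ⟶ D}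
    (h : IsPushout f g i j) (R : Subring D) (hi : ∀ b, i.hom b ∈ R) (hj : ∀ c, j.hom c ∈ R) (d : D) :
    d ∈ R := by
  let i' : B ⟶ CommRingCat.of R := CommRingCat.ofHom (i.hom.codRestrict R hi)
  let j' : C ⟶ CommRingCat.of R := CommRingCat.ofHom (j.hom.codRestrict R hj)
  have hw : f ≫ i' = g ≫ j' := by
    ext a
    exact congr($(h.w) a)
  let s : D ⟶ CommRingCat.of R := h.desc i' j' hw
  have h1 : s ≫ CommRingCat.ofHom R.subtype = 𝟙 D := by
    apply h.hom_ext
    · rw [← Category.assoc, h.inl_desc]; rfl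
    · rw [← Category.assoc, h.inr_desc]; rfl
  have h2 := congr($h1 d)
  rw [← show (CommRingCat.ofHom R.subtype) (s d) = d from h2]
  exact (s d).2

section

variable {X Y : Scheme.{u}} {f : X ⟶ Y} {F : X.Modules} (D : OmegaSh.Der f F)

lemma app_map {U V : X.Opens} (i : V ≤ U) (s : Γ(X, U)) :
    D.app V (X.presheaf.map (homOfLE i).op s) = F.presheaf.map (homOfLE i).op (D.app U s) :=
  D.d_map (homOfLE i).op s

lemma app_mul (U : X.Opens) (a b : Γ(X, U)) :
    D.app U (a * b) = a • D.app U b + b • D.app U a :=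
  D.d_mul (X := op U) a b

lemma app_one (U : X.Opens) : D.app U 1 = 0 := by
  have := app_mul D U 1 1
  rw [one_mul, one_smul] at this
  simpa using this

lemma app_pow (U : X.Opens) (a : Γ(X, U)) (n : ℕ) :
    D.app U (a ^ n) = (n : Γ(X, U)) • (a ^ (n - 1)) • D.app U a := by
  induction n with
  | zero => rw [pow_zero, app_one, Nat.cast_zero, zero_smul]
  | succ n ih =>
    rw [pow_succ, app_mul, ih, smul_smul, smul_smul, smul_smul, ← add_smul]
    congr 1
    rcases n with _ | n
    · simp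
    · simp only [Nat.add_sub_cancel]
      push_cast
      ring

lemma app_base (V : Y.Opens) (c : Γ(Y, V)) : D.app (f ⁻¹ᵁ V) (f.app V c) = 0 :=
  D.d_app (X := op V) c

theorem eq_zero_of_locally (L : X.Modules) (U : X.Opens) (k : Γ(L, U))
    (hk : ∀ x ∈ U, ∃ (V : X.Opens) (h : V ≤ U), x ∈ V ∧ L.presheaf.map (homOfLE h).op k = 0) :
    k = 0 := by
  choose V h hx h0 using hk
  refine TopCat.Sheaf.eq_of_locally_eq' ⟨L.presheaf, L.isSheaf⟩ (fun x : U => V x.1 x.2) U
    (fun x => homOfLE (h x.1 x.2)) ?_ k 0 ?_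
  · intro x hxU
    exact TopologicalSpace.Opens.mem_iSup.mpr ⟨⟨x, hxU⟩, hx x hxU⟩
  · intro x
    rw [map_zero]
    exact h0 x.1 x.2

end

section Frob

variable (p : ℕ) [Fact p.Prime] {X S : Scheme.{u}} [FrobSch.IsCharP S p] (f : X ⟶ S)
  {F : X.Modules} (D : OmegaSh.Der f F)

lemma frob_appLE [FrobSch.IsCharP X p] {U V : X.Opens} (e : V ≤ (FrobSch.frob X p) ⁻¹ᵁ U) (a : Γ(X, U)) :
    (FrobSch.frob X p).appLE U V e a = (X.presheaf.map (homOfLE (show V ≤ U from e)).op a : Γ(X, V)) ^ p := by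
  rw [Scheme.Hom.appLE]
  exact map_pow (X.presheaf.map (homOfLE (show V ≤ U from e)).op).hom (a : Γ(X, U)) p

lemma relFrob_kills_affine {U : X.Opens} {V : S.Opens} (hU : IsAffineOpen U) (hV : IsAffineOpen V)
    (e : U ≤ f ⁻¹ᵁ V)
    (c : Γ(FrobSch.frobTwist f p, (pullback.fst f (FrobSch.frob S p)) ⁻¹ᵁ U ⊓
      (pullback.snd f (FrobSch.frob S p)) ⁻¹ᵁ V)) :
    D.app _ ((FrobSch.relFrob f p).app _ c) = 0 := by
  have : FrobSch.IsCharP X p := FrobSch.IsCharP.of_hom f p
  let W : (FrobSch.frobTwist f p).Opens := (pullback.fst f (FrobSch.frob S p)) ⁻¹ᵁ U ⊓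
      (pullback.snd f (FrobSch.frob S p)) ⁻¹ᵁ V
  let r := FrobSch.relFrob f p
  have hfst : ∀ y : X, (pullback.fst f (FrobSch.frob S p)) ((FrobSch.relFrob f p) y) = y := by
    intro y
    rw [← Scheme.Hom.comp_apply, FrobSch.relFrob_fst]; rfl
  have hrW : r ⁻¹ᵁ W ≤ U := by
    intro x hx
    have : (pullback.fst f (FrobSch.frob S p)) ((FrobSch.relFrob f p) x) ∈ U := hx.1
    rwa [hfst] at this
  let R : Subring Γ(FrobSch.frobTwist f p, W) :=
    { carrier := {c | D.app _ (r.app W c) = 0}
      mul_mem' := by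
        intro a b ha hb
        change D.app _ (r.app W (a * b)) = 0
        rw [map_mul, app_mul, show D.app _ (r.app W a) = 0 from ha, show D.app _ (r.app W b) = 0 from hb,
          smul_zero, smul_zero, add_zero]
      one_mem' := by
        change D.app _ (r.app W 1) = 0
        rw [map_one, app_one]
      add_mem' := by
        intro a b ha hb
        change D.app _ (r.app W (a + b)) = 0
        rw [map_add, map_add, show D.app _ (r.app W a) = 0 from ha, show D.app _ (r.app W b) = 0 from hb,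
          add_zero]
      zero_mem' := by
        change D.app _ (r.app W 0) = 0
        rw [map_zero, map_zero]
      neg_mem' := by
        intro a ha
        change D.app _ (r.app W (-a)) = 0
        rw [map_neg, map_neg, show D.app _ (r.app W a) = 0 from ha, neg_zero] }
  have hpo := (isIso_pushoutSection_iff (IsPullback.of_hasPullback f (FrobSch.frob S p))
    (US := V) (UT := V) (UX := U) le_rfl e (UY := W) rfl).mp
    (isIso_pushoutSection_of_isAffineOpen _ _ _ _ hV hV hU)
  refine eq_top_of_isPushout hpo R ?_ ?_ c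
  · intro a
    change D.app _ (r.app W ((pullback.fst f (FrobSch.frob S p)).appLE U W inf_le_left a)) = 0
    have h1 : (pullback.fst f (FrobSch.frob S p)).appLE U W inf_le_left ≫ r.app W =
        (FrobSch.frob X p).appLE U (r ⁻¹ᵁ W) hrW := by
      rw [Scheme.Hom.app_eq_appLE, Scheme.Hom.appLE_comp_appLE]
      congr 1
      exact FrobSch.relFrob_fst f p
    have h2 := congr($h1 a)
    rw [CommRingCat.comp_apply] at h2
    rw [h2, frob_appLE, app_pow, FrobSch.natCast_eq_zero_app X p, zero_smul]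
  · intro b
    change D.app _ (r.app W ((pullback.snd f (FrobSch.frob S p)).appLE V W inf_le_right b)) = 0
    have h1 : (pullback.snd f (FrobSch.frob S p)).appLE V W inf_le_right ≫ r.app W =
        f.appLE V (r ⁻¹ᵁ W) (hrW.trans e) := by
      rw [Scheme.Hom.app_eq_appLE, Scheme.Hom.appLE_comp_appLE]
      congr 1
      exact FrobSch.relFrob_snd f p
    have h2 := congr($h1 b)
    rw [CommRingCat.comp_apply] at h2
    rw [h2, Scheme.Hom.appLE, CommRingCat.comp_apply, app_map, app_base, map_zero]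

theorem relFrob_kills (W : (FrobSch.frobTwist f p).Opens) (c : Γ(FrobSch.frobTwist f p, W)) :
    D.app _ ((FrobSch.relFrob f p).app W c) = 0 := by
  have : FrobSch.IsCharP X p := FrobSch.IsCharP.of_hom f p
  apply eq_zero_of_locally
  intro x hx
  obtain ⟨_, ⟨V, hV, rfl⟩, hxV, -⟩ := S.isBasis_affineOpens.exists_subset_of_mem_open
    (Set.mem_univ (f x)) isOpen_univ
  obtain ⟨_, ⟨U, hU, rfl⟩, hxU, hUV⟩ := X.isBasis_affineOpens.exists_subset_of_mem_open
    (show x ∈ ((f ⁻¹ᵁ V ⊓ (FrobSch.relFrob f p) ⁻¹ᵁ W : X.Opens) : Set X) from ⟨hxV, hx⟩)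
    (f ⁻¹ᵁ V ⊓ (FrobSch.relFrob f p) ⁻¹ᵁ W).isOpen
  let W' : (FrobSch.frobTwist f p).Opens := (pullback.fst f (FrobSch.frob S p)) ⁻¹ᵁ U ⊓
      (pullback.snd f (FrobSch.frob S p)) ⁻¹ᵁ V
  have hfst : ∀ y : X, (pullback.fst f (FrobSch.frob S p)) ((FrobSch.relFrob f p) y) = y := by
    intro y
    rw [← Scheme.Hom.comp_apply, FrobSch.relFrob_fst]; rfl
  have hsnd : ∀ y : X, (pullback.snd f (FrobSch.frob S p)) ((FrobSch.relFrob f p) y) = f y := by
    intro y
    rw [← Scheme.Hom.comp_apply, FrobSch.relFrob_snd]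
  have hsurj : Function.Surjective (FrobSch.relFrob f p) :=
    (Groth.Agent.FlatA.UnivHomeo.isHomeomorph_of_isUnivHomeo (K430.Frob.relFrob_isUnivHomeo p f)).surjective
  have hW' : W' ≤ W := by
    intro y hy
    obtain ⟨z, rfl⟩ := hsurj y
    have h1 : z ∈ U := by
      have := hy.1
      change (pullback.fst f (FrobSch.frob S p)) ((FrobSch.relFrob f p) z) ∈ U at this
      rwa [hfst] at this
    exact (hUV h1).2
  refine ⟨(FrobSch.relFrob f p) ⁻¹ᵁ W', fun y hy => hW' hy, ⟨?_, ?_⟩, ?_⟩
  · change (pullback.fst f (FrobSch.frob S p)) ((FrobSch.relFrob f p) x) ∈ U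
    rw [hfst]; exact hxU
  · change (pullback.snd f (FrobSch.frob S p)) ((FrobSch.relFrob f p) x) ∈ V
    rw [hsnd]; exact hxV
  · rw [← app_map]
    have h3 : X.presheaf.map (homOfLE (show (FrobSch.relFrob f p) ⁻¹ᵁ W' ≤ (FrobSch.relFrob f p) ⁻¹ᵁ W from
        fun y hy => hW' hy)).op ((FrobSch.relFrob f p).app W c) =
        (FrobSch.relFrob f p).app W' ((FrobSch.frobTwist f p).presheaf.map (homOfLE hW').op c) := by
      have := congr($((FrobSch.relFrob f p).naturality (homOfLE hW').op) c)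
      exact this.symm
    rw [h3]
    exact relFrob_kills_affine p f D hU hV (fun y hy => (hUV hy).1) _

end Frob

section Frob2

variable (p : ℕ) [Fact p.Prime] {X S : Scheme.{u}} [FrobSch.IsCharP S p] (f : X ⟶ S)
  {F : X.Modules}

/-- A derivation relative to `f` is a derivation relative to the relative Frobenius. -/
noncomputable def toRel (D : OmegaSh.Der f F) : OmegaSh.Der (FrobSch.relFrob f p) F where
  d := D.d
  d_mul := D.d_mul
  d_map := D.d_map
  d_app {W} c := relFrob_kills p f D W.unop c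

/-- A derivation relative to the relative Frobenius is a derivation relative to `f`. -/
noncomputable def ofRel (D' : OmegaSh.Der (FrobSch.relFrob f p) F) : OmegaSh.Der f F where
  d := D'.d
  d_mul := D'.d_mul
  d_map := D'.d_map
  d_app {V} c := by
    obtain ⟨V⟩ := V
    have h := app_base D' ((pullback.snd f (FrobSch.frob S p)) ⁻¹ᵁ V)
      ((pullback.snd f (FrobSch.frob S p)).app V c)
    have h1 : (pullback.snd f (FrobSch.frob S p)).app V ≫
        (FrobSch.relFrob f p).app ((pullback.snd f (FrobSch.frob S p)) ⁻¹ᵁ V) =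
        (FrobSch.relFrob f p ≫ pullback.snd f (FrobSch.frob S p)).app V := by
      rw [Scheme.Hom.comp_app]
    have h2 := congr($h1 c)
    rw [CommRingCat.comp_apply] at h2
    rw [h2] at h
    have key : ∀ (g : X ⟶ S) (hg : g = f), D'.app (g ⁻¹ᵁ V) (g.app V c) = 0 →
        D'.app (f ⁻¹ᵁ V) (f.app V c) = 0 := by
      rintro g rfl h; exact h
    exact key _ (FrobSch.relFrob_snd f p) h

end Frob2

theorem main (p : ℕ) [Fact p.Prime]
    {X S : Scheme.{u}} [FrobSch.IsCharP S p] (f : X ⟶ S)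
    (Ω : X.Modules) (d : OmegaSh.Der f Ω) (hd : OmegaSh.IsUniversal d) :
    ∃ d' : OmegaSh.Der (FrobSch.relFrob f p) Ω,
      (∀ (U : X.Opens) (s : Γ(X, U)), d'.app U s = d.app U s) ∧ OmegaSh.IsUniversal d' := by
  refine ⟨toRel p f d, fun U s => rfl, ?_⟩
  intro F D
  obtain ⟨α, hα, hu⟩ := hd F (ofRel p f D)
  refine ⟨α, ?_, ?_⟩
  · have := congr(toRel p f $hα)
    exact this
  · intro β hβ
    apply hu
    have := congr(ofRel p f $hβ)
    exact this

end K430.FrobDer
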