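import Groth.Agent.CycB.RelDim2
import Mathlib.AlgebraicGeometry.Morphisms.UnderlyingMap
import Mathlib.AlgebraicGeometry.Noetherian

/-!
# Closed subsets of the source of a dominant morphism which are generically finite over the target
-/

set_option autoImplicit false

universe u

open CategoryTheory CategoryTheory.Limits AlgebraicGeometry TopologicalSpace

namespace K430.DomDim

open Groth.Agent.CycB.RelDim

/-- The generic point of an irreducible target is in the range of a dominant morphism with Noetherian source. -/
theorem exists_generic {X Y : Scheme.{u}} (f : X ⟶ Y) [NoetherianSpace X] [IrreducibleSpace Y] [IsDominant f] :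
    ∃ x : X, f x = genericPoint Y := by
  have hfin : (irreducibleComponents X).Finite := NoetherianSpace.finite_irreducibleComponents
  have hcov : (Set.univ : Set X) = ⋃ Z ∈ irreducibleComponents X, Z := by
    rw [← Set.sUnion_eq_biUnion, sUnion_irreducibleComponents]
  have h1 : genericPoint Y ∈ closure (Set.range f) := by
    rw [(IsDominant.denseRange (f := f)).closure_range]; trivial
  rw [← Set.image_univ, hcov, Set.image_iUnion₂, hfin.closure_biUnion] at h1
  simp only [Set.mem_iUnion] at h1
  obtain ⟨Z, hZ, hmem⟩ := h1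
  have hZc : IsClosed Z := isClosed_of_mem_irreducibleComponents Z hZ
  obtain ⟨ξ, hξ⟩ := QuasiSober.sober hZ.1 hZc
  refine ⟨ξ, ?_⟩
  have h2 : IsGenericPoint (f ξ) (closure (f '' Z)) := hξ.image f.continuous
  have h3 : f ξ ⤳ genericPoint Y := h2.specializes hmem
  exact (h3.antisymm (genericPoint_specializes _)).eq

theorem exists_closed_point_fiber {X Y : Scheme.{u}} (f : X ⟶ Y) [QuasiCompact f] (y : Y) (x : X) (hx : f x = y) :
    ∃ z : f.fiber y, IsClosed ({z} : Set (f.fiber y)) := by
  have hne : Nonempty (f.fiber y) := by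
    have : x ∈ Set.range (f.fiberι y) := by
      rw [Scheme.Hom.range_fiberι]; exact hx
    exact ⟨this.choose⟩
  have : CompactSpace (f.fiber y) := inferInstance
  obtain ⟨z, -, hz⟩ := (isClosed_univ (X := f.fiber y)).exists_closed_singleton Set.univ_nonempty
  exact ⟨z, hz⟩

/-- A closed point of a fibre has residue field algebraic over that of the base point. -/
theorem rtd_eq_zero {X Y : Scheme.{u}} (f : X ⟶ Y) [LocallyOfFiniteType f] (y : Y) (z : f.fiber y)
    (hz : IsClosed ({z} : Set (f.fiber y))) : rtd f (f.fiberι y z) = 0 := by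
  obtain ⟨n, hn, hd⟩ := exists_dim_closure_fiber f y z
  rw [hz.closure_eq] at hd
  have h0 : topologicalKrullDim ({z} : Set (f.fiber y)) = 0 := by
    have h1 : topologicalKrullDim ({z} : Set (f.fiber y)) ≤ 0 := topologicalKrullDim_zero_of_discreteTopology _
    have : Nonempty (IrreducibleCloseds ({z} : Set (f.fiber y))) :=
      ⟨⟨{⟨z, rfl⟩}, isIrreducible_singleton, isClosed_discrete _⟩⟩
    exact le_antisymm h1 (Order.krullDim_nonneg)
  rw [h0] at hd
  have : n = 0 := by exact_mod_cast hd.symm
  rw [hn, this, Nat.cast_zero]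

theorem exists_irreducible (k : Type u) [Field k] {X Y : Scheme.{u}} (sX : X ⟶ Spec (CommRingCat.of k))
    (sY : Y ⟶ Spec (CommRingCat.of k)) [LocallyOfFiniteType sX] [QuasiCompact sX] [LocallyOfFiniteType sY]
    [QuasiSeparated sY] [IrreducibleSpace Y] (f : X ⟶ Y) (hf : f ≫ sY = sX) [IsDominant f] :
    ∃ Z : Set X, IsClosed Z ∧ IsIrreducible Z ∧ topologicalKrullDim ↥Z = topologicalKrullDim Y ∧
      Dense (f '' Z) := by
  have : LocallyOfFiniteType (f ≫ sY) := by rw [hf]; infer_instance
  have : LocallyOfFiniteType f := locallyOfFiniteType_of_comp f sY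
  have : QuasiCompact (f ≫ sY) := by rw [hf]; infer_instance
  have : QuasiCompact f := QuasiCompact.of_comp f sY
  have : IsLocallyNoetherian X := LocallyOfFiniteType.isLocallyNoetherian sX
  have : CompactSpace X := QuasiCompact.compactSpace_of_compactSpace sX
  have : IsNoetherian X := {}
  obtain ⟨x₀, hx₀⟩ := exists_generic f
  obtain ⟨z, hz⟩ := exists_closed_point_fiber f _ x₀ hx₀
  have hr := rtd_eq_zero f _ z hz
  have hfx : f (f.fiberι (genericPoint Y) z) = genericPoint Y := by
    have : f.fiberι (genericPoint Y) z ∈ Set.range (f.fiberι (genericPoint Y)) := ⟨z, rfl⟩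
    rw [Scheme.Hom.range_fiberι] at this
    exact this
  set x := f.fiberι (genericPoint Y) z with hx
  have hF : IsField Γ(Spec (CommRingCat.of k), ⊤) :=
    ((Scheme.ΓSpecIso (CommRingCat.of k)).commRingCatIsoToRingEquiv.toMulEquiv.isField
      (Field.toIsField k))
  obtain ⟨n, hn, hd⟩ := exists_dim_closure sX (isAffineOpen_top _) hF x
  obtain ⟨m, hm, hd'⟩ := exists_dim_closure sY (isAffineOpen_top _) hF (genericPoint Y)
  have hnm : n = m := by
    rw [← hf, rtd_comp, hr, add_zero, hfx, hm] at hn
    exact_mod_cast hn.symm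
  refine ⟨closure {x}, isClosed_closure, isIrreducible_singleton.closure, ?_, ?_⟩
  · rw [hd, hnm, ← hd']
    have h1 : closure ({genericPoint Y} : Set Y) = Set.univ := genericPoint_closure Y
    rw [h1]
    exact (IsHomeomorph.topologicalKrullDim_eq _ (Homeomorph.Set.univ Y).isHomeomorph)
  · have h1 : closure ({genericPoint Y} : Set Y) = Set.univ := genericPoint_closure Y
    have h2 : ({genericPoint Y} : Set Y) ⊆ f '' closure {x} := by
      rintro _ rfl
      exact ⟨x, subset_closure rfl, hfx⟩
    intro y
    have h3 : y ∈ closure ({genericPoint Y} : Set Y) := by rw [h1]; trivial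
    exact closure_mono h2 h3

end K430.DomDim
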