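import Groth.Agent.Variety.K430.FibOmAlg
import Groth.Agent.CurvesB.OmegaStalkDict
import Groth.Agent.Divis.StalkMod
import Groth.Agent.CycB.RelDim2
import Groth.Prelude.Def_FixPt

/-!
# The fibre of `Ω_{X/Y}` at a closed point bounds the dimension of the fibre of `f`
-/

set_option autoImplicit false
universe u
open CategoryTheory CategoryTheory.Limits AlgebraicGeometry Opposite TopologicalSpace

namespace K430.FibOm

open Groth.Agent Groth.Agent.CycB.RelDim Groth.Agent.VarietyB.DimSch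

/-- The dimension of the closure of a point on a scheme locally of finite type over a field. -/
theorem dim_closure_eq {X Y : Scheme.{u}} (f : X ⟶ Y) [LocallyOfFiniteType f] (hY : IsAffineOpen (⊤ : Y.Opens))
    (hF : IsField Γ(Y, ⊤)) (x : X) {V : X.Opens} (hV : IsAffineOpen V) (hx : x ∈ V) :
    topologicalKrullDim (closure {x} : Set X) = ringKrullDim (Γ(X, V) ⧸ (hV.primeIdealOf ⟨x, hx⟩).asIdeal) := by
  have key : ∃ n : ℕ, rtd f x = n ∧
      ringKrullDim (Γ(X, V) ⧸ (hV.primeIdealOf ⟨x, hx⟩).asIdeal) = n := by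
    have hft : (f.appLE ⊤ V le_top).hom.FiniteType := f.finiteType_appLE hY hV le_top
    have hq : (hY.primeIdealOf ⟨f x, trivial⟩).asIdeal =
        (hV.primeIdealOf ⟨x, hx⟩).asIdeal.comap (f.appLE ⊤ V le_top).hom :=
      congrArg PrimeSpectrum.asIdeal
        (IsAffineOpen.comap_primeIdealOf_appLE ⊤ hY V hV le_top hx).symm
    have hbot : (hY.primeIdealOf ⟨f x, trivial⟩).asIdeal = ⊥ := by
      let _ := hF.toField
      exact (Ideal.eq_bot_or_top _).resolve_right (hY.primeIdealOf ⟨f x, trivial⟩).isPrime.ne_top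
    rw [rtd_eq_trd_quotientMap f hY hV le_top x hx trivial _ rfl hq.le]
    have hft' := CycB.TrdegAlg.quotientMap_finiteType _ hft _ _ hq.le
    generalize hφ : Ideal.quotientMap (hV.primeIdealOf ⟨x, hx⟩).asIdeal
      (f.appLE ⊤ V le_top).hom hq.le = φ at *
    clear hφ
    have hF' : IsField (Γ(Y, ⊤) ⧸ (hY.primeIdealOf ⟨f x, trivial⟩).asIdeal) := by
      rw [hbot]
      exact (RingEquiv.quotientBot Γ(Y, ⊤)).toMulEquiv.isField hF
    let _ := hF'.toField
    let _ := φ.toAlgebra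
    have : Algebra.FiniteType (Γ(Y, ⊤) ⧸ (hY.primeIdealOf ⟨f x, trivial⟩).asIdeal)
      (Γ(X, V) ⧸ (hV.primeIdealOf ⟨x, hx⟩).asIdeal) := hft'
    exact Ega4B.DimFT.exists_dim _ _
  obtain ⟨n, hn, hn'⟩ := key
  obtain ⟨m, hm, hm'⟩ := exists_dim_closure f hY hF x
  have : n = m := by
    rw [hn] at hm
    exact_mod_cast hm
  rw [hm', hn', this]

/-- compatibility of the maps from the base field with a morphism over it -/
theorem appLE_toSections {k : Type u} [Field k] {X Y : Scheme.{u}} [X.Over (Spec (CommRingCat.of k))]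
    [Y.Over (Spec (CommRingCat.of k))] (f : X ⟶ Y)
    (hf : f ≫ (Y ↘ Spec (CommRingCat.of k)) = X ↘ Spec (CommRingCat.of k)) {U : Y.Opens} {W : X.Opens}
    (e : W ≤ f ⁻¹ᵁ U) (c : k) :
    f.appLE U W e (toSections k Y U c) = toSections k X W c := by
  have h : ∀ {Z : Scheme.{u}} [Z.Over (Spec (CommRingCat.of k))] (V : Z.Opens), toSections k Z V =
      ((Z ↘ Spec (CommRingCat.of k)).appLE ⊤ V le_top).hom.comp
      (Scheme.ΓSpecIso (CommRingCat.of k)).inv.hom := by
    intro Z _ V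
    ext c
    simp [toSections, Coh.toGlobal, Scheme.Hom.appLE]
  rw [h, h]
  have h2 : (Y ↘ Spec (CommRingCat.of k)).appLE ⊤ U le_top ≫ f.appLE U W e =
      (X ↘ Spec (CommRingCat.of k)).appLE ⊤ W le_top := by
    rw [Scheme.Hom.appLE_comp_appLE]
    simp only [hf]
  exact congr($h2 ((Scheme.ΓSpecIso (CommRingCat.of k)).inv.hom c))

attribute [local instance] FixPt.fiberModule

theorem le_finrank_fiber (k : Type u) [Field k] [IsAlgClosed k]
    {X Y : Scheme.{u}} [X.Over (Spec (CommRingCat.of k))] [Y.Over (Spec (CommRingCat.of k))]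
    [LocallyOfFiniteType (X ↘ Spec (CommRingCat.of k))]
    (f : X ⟶ Y) [QuasiCompact (pullback.diagonal f)]
    (hf : f ≫ (Y ↘ Spec (CommRingCat.of k)) = X ↘ Spec (CommRingCat.of k))
    (x : X) (hx : IsClosed ({x} : Set X)) (Z : Set X) (hZ : IsIrreducible Z) (hZc : IsClosed Z) (hxZ : x ∈ Z)
    (hZf : Z ⊆ f.base ⁻¹' {f.base x}) (r : ℕ) (hr : topologicalKrullDim ↥Z = (r : WithBot ℕ∞)) :
    r ≤ Module.finrank k (FixPt.fiber (Omega.sheaf f) x) := by
  obtain ⟨z, hz⟩ := QuasiSober.sober hZ hZc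
  have hzZ : z ∈ Z := by
    rw [← hz.def]
    exact subset_closure rfl
  have hzx : z ⤳ x := by
    rw [specializes_iff_mem_closure, hz.def]
    exact hxZ
  have hfz : f z = f x := hZf hzZ
  obtain ⟨U, hU, hxU, -⟩ := exists_isAffineOpen_mem_and_subset (X := Y) (U := ⊤) (x := f x) trivial
  obtain ⟨W, hW, hxW, e⟩ := exists_isAffineOpen_mem_and_subset (X := X) (U := f ⁻¹ᵁ U) (x := x) hxU
  have hzW : z ∈ W := hzx.mem_open W.2 hxW
  let B : Type u := Γ(X, W)
  let C : Type u := Γ(Y, U)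
  let _ : Algebra k Γ(X, W) := (toSections k X W).toAlgebra
  let _ : Algebra k Γ(Y, U) := (toSections k Y U).toAlgebra
  let _ := CurvesB.OmegaDer.algX f e
  let _ := CurvesB.OmegaDer.modO f e
  have := CurvesB.OmegaDer.isScalarTower f e
  have hkCB : IsScalarTower k Γ(Y, U) Γ(X, W) := IsScalarTower.of_algebraMap_eq fun c =>
    (appLE_toSections f hf e c).symm
  have hft : Algebra.FiniteType k Γ(X, W) := toSections_finiteType k X hW
  have hpmax : (hW.primeIdealOf ⟨x, hxW⟩).asIdeal.IsMaximal := hW.primeIdealOf_isMaximal_of_isClosed ⟨x, hxW⟩ hx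
  have hqp : (hW.primeIdealOf ⟨z, hzW⟩).asIdeal ≤ (hW.primeIdealOf ⟨x, hxW⟩).asIdeal := by
    have h1 := (mem_closure_fromSpec hW z hzW (hW.primeIdealOf ⟨x, hxW⟩))
    rw [hW.fromSpec_primeIdealOf] at h1
    exact h1.mp hzx
  have hC : (hW.primeIdealOf ⟨x, hxW⟩).asIdeal.comap (algebraMap Γ(Y, U) Γ(X, W)) ≤
      (hW.primeIdealOf ⟨z, hzW⟩).asIdeal.comap (algebraMap Γ(Y, U) Γ(X, W)) := by
    have h1 := congrArg PrimeSpectrum.asIdeal (IsAffineOpen.comap_primeIdealOf_appLE U hU W hW e hxW)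
    have h2 := congrArg PrimeSpectrum.asIdeal (IsAffineOpen.comap_primeIdealOf_appLE U hU W hW e hzW)
    have h3 : (⟨f z, e hzW⟩ : U) = ⟨f x, e hxW⟩ := Subtype.ext hfz
    rw [h3] at h2
    exact (h1.trans h2.symm).le
  have hdim : ringKrullDim (Γ(X, W) ⧸ (hW.primeIdealOf ⟨z, hzW⟩).asIdeal) = r := by
    rw [← dim_closure_eq (X ↘ Spec (CommRingCat.of k)) (isAffineOpen_top _)
      ((Scheme.ΓSpecIso (CommRingCat.of k)).commRingCatIsoToRingEquiv.toMulEquiv.isField
      (Field.toIsField _)) z hW hzW, hz.def]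
    exact hr
  refine Divis.StalkMod.stalk_elim (Omega.sheaf f)
    (VarietyB.PullSec.isQCoh_pullback _ _ (PerfA.IdealModule.isQCoh_idealMod _)) hW x hxW ?_
  intro _ _ _ _ l hl hg _
  let _ : Algebra k (X.presheaf.stalk x) := (Curv2.stalkMap k X x).toAlgebra
  have : IsScalarTower k Γ(X, W) (X.presheaf.stalk x) := IsScalarTower.of_algebraMap_eq fun c => by
    rw [hg]
    exact (germ_toSections k X W x hxW c).symm
  let E : Ω[Γ(X, W)⁄Γ(Y, U)] ≃ₗ[Γ(X, W)] Γ(Omega.sheaf f, W) :=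
    LinearEquiv.ofBijective _ (CurvesB.OmegaDer.bijective_lift f e hU hW)
  have hl' : IsLocalizedModule (hW.primeIdealOf ⟨x, hxW⟩).asIdeal.primeCompl (l ∘ₗ E.toLinearMap) :=
    IsLocalizedModule.of_linearEquiv_right _ _ _
  exact FibOmAlg.le_finrank (k := k) (O := X.presheaf.stalk x) (hW.primeIdealOf ⟨x, hxW⟩).asIdeal
    (hW.primeIdealOf ⟨z, hzW⟩).asIdeal hqp hC r hdim (l ∘ₗ E.toLinearMap) (fun a t => rfl)

end K430.FibOm
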