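import Groth.Agent.Variety.K430.BirLoc
import Groth.Agent.Variety.K430.FibOm
import Groth.Agent.S1535
import Groth.Agent.S2821
import Groth.Agent.S2852

/-!
# The exceptional locus of a proper birational morphism between smooth varieties
-/

set_option autoImplicit false

universe u

open CategoryTheory CategoryTheory.Limits AlgebraicGeometry TopologicalSpace

namespace K430.ExcDim

/-- For a proper birational morphism to a normal Noetherian scheme, a point at which the morphism is a local isomorphism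
is not in the exceptional locus. -/
theorem exc_iff {X Y : Scheme.{u}} [IsIntegral X] [IsIntegral Y] [IsNoetherian Y]
    (f : X ⟶ Y) [IsProper f] (V : Y.Opens) (hV : (V : Set Y).Nonempty) (hfV : IsIso (f ∣_ V))
    (hY : ∀ y : Y, IsIntegrallyClosed (Y.presheaf.stalk y)) (x : X) :
    (∀ V : Y.Opens, f x ∈ V → ¬ IsIso (f ∣_ V)) ↔ ¬ ∃ W : X.Opens, x ∈ W ∧ IsOpenImmersion (W.ι ≫ f) := by
  constructor
  · rintro h ⟨W, hxW, hW⟩
    have h1 : (W.ι ≫ f).QuasiFiniteAt (⟨x, hxW⟩ : (W : X.Opens)) := Scheme.Hom.quasiFiniteAt _ _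
    have hq : f.QuasiFiniteAt x := (Scheme.Hom.quasiFiniteAt_comp_iff_of_isOpenImmersion (f := W.ι)
      (x := (⟨x, hxW⟩ : (W : X.Opens)))).mp h1
    obtain ⟨V', hxV', hV'⟩ := Groth.Agent.S1655.result f V hV hfV (f x) (hY _) x rfl hq
    exact h V' hxV' hV'
  · intro h V' hxV' hV'
    refine h ⟨f ⁻¹ᵁ V', hxV', ?_⟩
    rw [← morphismRestrict_ι]; infer_instance

/-- The exceptional locus is closed. -/
theorem isClosed_exc {X Y : Scheme.{u}} (f : X ⟶ Y) :
    IsClosed {x : X | ∀ V : Y.Opens, f x ∈ V → ¬ IsIso (f ∣_ V)} := by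
  have h : {x : X | ∀ V : Y.Opens, f x ∈ V → ¬ IsIso (f ∣_ V)}ᶜ =
      ⋃ (V : Y.Opens) (_ : IsIso (f ∣_ V)), (f ⁻¹ᵁ V : Set X) := by
    ext x
    simp only [Set.mem_compl_iff, Set.mem_setOf_eq, not_forall, not_not, Set.mem_iUnion]
    constructor
    · rintro ⟨V, hx, hV⟩
      exact ⟨V, hV, hx⟩
    · rintro ⟨V, hV, hx⟩
      exact ⟨V, hx, hV⟩
  rw [← isOpen_compl_iff, h]
  exact isOpen_iUnion fun V => isOpen_iUnion fun _ => (f ⁻¹ᵁ V).isOpen

open Groth.Agent.VarietyB.DimSch in
/-- dimension of the closure of a point of codimension one -/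
theorem dim_closure_add_one (k : Type u) [Field k] {X : Scheme.{u}} [X.Over (Spec (CommRingCat.of k))] [IsIntegral X]
    [LocallyOfFiniteType (X ↘ (Spec (CommRingCat.of k)))] (ξ : X) (h : ringKrullDim (X.presheaf.stalk ξ) = 1) :
    topologicalKrullDim (closure {ξ} : Set X) + 1 = topologicalKrullDim X := by
  obtain ⟨W, hW, hxW, -⟩ := exists_isAffineOpen_mem_and_subset (X := X) (U := ⊤) (x := ξ) trivial
  rw [K430.FibOm.dim_closure_eq (X ↘ Spec (CommRingCat.of k)) (isAffineOpen_top _)
      ((Scheme.ΓSpecIso (CommRingCat.of k)).commRingCatIsoToRingEquiv.toMulEquiv.isField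
      (Field.toIsField _)) ξ hW hxW, dim_quotient_eq_trd k hW ξ hxW, topologicalKrullDim_eq_trd k (X := X),
      ← localDim_eq_of_irreducible k ξ, localDim_eq k ξ, h, add_comm]

/-- irreducible components of a closed subset whose maximal points have codimension one -/
theorem dim_component (k : Type u) [Field k] {X : Scheme.{u}} [X.Over (Spec (CommRingCat.of k))] [IsIntegral X]
    [LocallyOfFiniteType (X ↘ (Spec (CommRingCat.of k)))] (T : Set X) (hT : IsClosed T)
    (h : ∀ ξ ∈ T, (∀ η ∈ T, η ⤳ ξ → η = ξ) → ringKrullDim (X.presheaf.stalk ξ) = 1)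
    (Z : Set ↥T) (hZ : Z ∈ irreducibleComponents ↥T) :
    topologicalKrullDim ↥Z + 1 = topologicalKrullDim X := by
  have hQS : QuasiSober T := hT.isClosedEmbedding_subtypeVal.quasiSober
  obtain ⟨ζ, hζ⟩ := QuasiSober.sober hZ.1 (isClosed_of_mem_irreducibleComponents Z hZ)
  have himg : Subtype.val '' Z = closure {ζ.1} := by
    rw [← hζ.def, ← Set.image_singleton, hT.isClosedEmbedding_subtypeVal.closure_image_eq]
  have hdim : topologicalKrullDim ↥Z = topologicalKrullDim (closure {ζ.1} : Set X) := by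
    rw [← himg]
    exact IsHomeomorph.topologicalKrullDim_eq _
      (Topology.IsEmbedding.subtypeVal.homeomorphImage Z).isHomeomorph
  rw [hdim]
  refine dim_closure_add_one k ζ.1 (h ζ.1 ζ.2 fun η hη hs => ?_)
  have hs' : (⟨η, hη⟩ : T) ⤳ ζ := by
    exact (Topology.IsInducing.subtypeVal.specializes_iff (x := (⟨η, hη⟩ : T)) (y := ζ)).mp hs
  have h1 : Z ⊆ closure {(⟨η, hη⟩ : T)} := by
    rw [← hζ.def]
    exact closure_minimal (Set.singleton_subset_iff.mpr hs'.mem_closure) isClosed_closure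
  have h2 : closure {(⟨η, hη⟩ : T)} ≤ Z := hZ.2 isIrreducible_singleton.closure h1
  have h3 : ζ ⤳ (⟨η, hη⟩ : T) := by
    rw [specializes_iff_mem_closure, hζ.def]
    exact h2 (subset_closure rfl)
  exact congrArg Subtype.val (hs'.antisymm h3).eq

theorem ufd_of_smooth (k : Type u) [Field k] {Y : Scheme.{u}} [Y.Over (Spec (CommRingCat.of k))]
    [Smooth (Y ↘ (Spec (CommRingCat.of k)))] [IsIntegral Y] (y : Y) : UniqueFactorizationMonoid (Y.presheaf.stalk y) := by
  have := Groth.Agent.S1535.result k Y y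
  exact (Groth.Agent.S2821.result (Y.presheaf.stalk y)).2

end K430.ExcDim
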