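import Groth.Agent.Sga2.EszDepth
import Groth.Agent.Sga2.StalkGen68
import Groth.Agent.Ega1.IdealGen
import Groth.Agent.VarietyB.DegCartier
import Groth.Agent.Fdesc.AssFlat
import Groth.Agent.Fga.TwistCoh
import Groth.Prelude.Def_FDesc

/-!
# Tensoring the ideal sequence of an effective Cartier divisor with a module

If `D` is an effective Cartier divisor containing no associated point of the quasi-coherent module `F`, then
`0 → F ⊗ I_D → F ⊗ O → F ⊗ O_D → 0` is exact.
-/

set_option autoImplicit false
universe u
open CategoryTheory CategoryTheory.Limits AlgebraicGeometry Opposite TopologicalSpace TensorProduct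

namespace K430.CartTens

open Groth.Agent Groth.Agent.CycB.StalkExact Groth.Agent.Fdesc.AssFlat Groth.Agent.VarietyB.DegCartier

variable {X : Scheme.{u}}

theorem tensorModStalk_natural_right {M N : X.Modules} (u : M ⟶ N) (L : X.Modules) (x : X)
    (t : (CohB1.tensorMod L M).presheaf.stalk x) :
    tensorModStalk L N x (stalkLin ((DCoh.tensorBi.obj L).map u) x t) =
      (stalkLin u x).lTensor (L.presheaf.stalk x) (tensorModStalk L M x t) := by
  have h := Groth.Agent.Dcoh.Stalk.tensorStalkIso_naturality_right (M := L) u x
  have h1 := congrArg (fun f => f.hom t) h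
  exact h1

/-- The tensored ideal sequence. -/
noncomputable def seq (F : X.Modules) (D : X.IdealSheafData) : ShortComplex X.Modules :=
  (idealSeq D).map (DCoh.tensorBi.obj F)

theorem stalkLin_ι_bijective (D : X.IdealSheafData) (x : X) (hx : x ∉ D.support) :
    Function.Bijective (stalkLin (ClSub.idealModι D) x) := by
  obtain ⟨h1, h2, h3⟩ := stalkLin_shortExact (idealSeq D) (idealSeq_shortExact D) x
  refine ⟨h1, fun y => ?_⟩
  have hs : Subsingleton ((ClSub.quotMod D).presheaf.stalk x) := by
    by_contra h
    exact hx (support_quotMod_subset D h)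
  exact (h2 y).mp (hs.elim _ _)

/-- The map `F ⊗ I_D ⟶ F ⊗ O` is a monomorphism if `D` contains no associated point of `F`. -/
theorem mono_f [IsLocallyNoetherian X] {F : X.Modules} (hF : Coh.IsCoh F) {D : X.IdealSheafData}
    (hD : BlowUp.IsEffCartierIdeal D) (hass : ∀ x ∈ D.support, ¬ Curv2.IsAssPoint F x) :
    Mono (seq F D).f := by
  have hI := Ega1.IdealGen.isInvertible_idealMod D hD
  refine Sga2.EszDepth.mono_of_injective_ass (F' := CohB1.tensorMod F (ClSub.idealMod D))
    (Fga.TwistCoh.isCoh_tensor hF hI).1 ?_ (seq F D).f fun z hz => ?_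
  · exact (Fga.TwistCoh.isCoh_tensor hF Fdesc.LocGen.isInvertible_structureModule).1
  · have hA : AssSch.Ass (CohB1.tensorMod F (ClSub.idealMod D)) = AssSch.Ass F :=
      (Sga2.EszDepth.ass_eq_of_stalkEquiv fun x => Sga2.StalkGen68.nonempty_stalkEquiv_tensor F hI x).symm
    rw [hA] at hz
    have hz' : z ∉ D.support := fun h => hass z h hz
    have hb := stalkLin_ι_bijective D z hz'
    intro a b hab
    have h1 := tensorModStalk_natural_right (ClSub.idealModι D) F z a
    have h2 := tensorModStalk_natural_right (ClSub.idealModι D) F z b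
    have hinj : Function.Injective ((stalkLin (ClSub.idealModι D) z).lTensor (F.presheaf.stalk z)) := by
      have := (LinearEquiv.lTensor (F.presheaf.stalk z) (LinearEquiv.ofBijective _ hb)).injective
      exact this
    apply (tensorModStalk F (ClSub.idealMod D) z).injective
    apply hinj
    rw [← h1, ← h2]
    exact congrArg _ hab

/-- **Exactness** of the tensored ideal sequence. -/
theorem seq_shortExact [IsLocallyNoetherian X] {F : X.Modules} (hF : Coh.IsCoh F) {D : X.IdealSheafData}
    (hD : BlowUp.IsEffCartierIdeal D) (hass : ∀ x ∈ D.support, ¬ Curv2.IsAssPoint F x) :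
    (seq F D).ShortExact := by
  have h := idealSeq_shortExact D
  have := h.epi_g
  have hex : (seq F D).Exact := h.exact.map_of_epi_of_preservesCokernel (DCoh.tensorBi.obj F) inferInstance inferInstance
  exact
  { exact := hex
    mono_f := mono_f hF hD hass
    epi_g := inferInstanceAs (Epi ((DCoh.tensorBi.obj F).map (idealSeq D).g)) }

end K430.CartTens
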