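import Groth.Agent.Ega1.IdealGen
import Groth.Agent.S7885

/-!
# Uniqueness of divisors supported in the exceptional locus

`eq_of_iso`: for `f : X ⟶ Y` which is an isomorphism over an open `V` of `Y` such that functions extend from `V` to `Y`,
two ideals trivial on `f⁻¹ V` which are isomorphic as modules are equal.
-/

set_option autoImplicit false
universe u

open CategoryTheory CategoryTheory.Limits AlgebraicGeometry Opposite TopologicalSpace

namespace K430.ExcUniq

open Groth.Agent Groth.Agent.Fdesc.LocGen Groth.Agent.PerfA.IdealModule Groth.Agent.Ega1.IdealGen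

variable {X Y : Scheme.{u}}

theorem ideal_eq_top_of_disjoint (I : X.IdealSheafData) (U : X.affineOpens)
    (h : ∀ x ∈ U.1, x ∉ I.support) : I.ideal U = ⊤ := by
  have h0 : Disjoint (I.support : Set X) (U : Set X) := by
    rw [Set.disjoint_left]
    exact fun x h1 h2 => h x h2 h1
  have h1 := (U.2.fromSpec_image_zeroLocus (I.ideal U)).trans_subset
    (I.coe_support_inter U).symm.subset
  rw [h0.inter_eq, Set.subset_empty_iff] at h1
  exact PrimeSpectrum.zeroLocus_empty_iff_eq_top.mp (Set.image_eq_empty.mp h1)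

theorem exists_one (K : X.IdealSheafData) {U : X.Opens} (hK : ∀ x ∈ U, x ∉ K.support) :
    ∃ t : Γ(ClSub.idealMod K, U), val K t = 1 := by
  refine exists_val_eq_of_forall K 1 fun A hA => ?_
  rw [ideal_eq_top_of_disjoint K A fun x hx => hK x (hA hx)]
  trivial

/-- Restriction of functions to a nonempty open of an integral scheme is injective. -/
theorem ores_injective [IsIntegral X] {A B : X.Opens} (h : B ≤ A) (hB : (A : Set X).Nonempty → (B : Set X).Nonempty) :
    Function.Injective (ores (X := X) h) := by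
  by_cases hA : (A : Set X).Nonempty
  · have : Nonempty B := (hB hA).to_subtype
    exact map_injective_of_isIntegral X (homOfLE h)
  · have hbot : A = ⊥ := by
      ext x
      exact ⟨fun hx => (hA ⟨x, hx⟩).elim, fun hx => hx.elim⟩
    subst hbot
    intro a b _
    exact Subsingleton.elim a b

theorem le_of_iso [IsIntegral X] (U : X.Opens) (hU : (U : Set X).Nonempty) {K K' : X.IdealSheafData}
    (hK : ∀ x ∈ U, x ∉ K.support) (hK' : ∀ x ∈ U, x ∉ K'.support) (e : ClSub.idealMod K ≅ ClSub.idealMod K')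
    (hext : ∀ a : Γ(X, U), IsUnit a → ∃ b : Γ(X, ⊤), IsUnit b ∧ ores le_top b = a) : K ≤ K' := by
  obtain ⟨t, ht⟩ := exists_one K hK
  obtain ⟨t', ht'⟩ := exists_one K' hK'
  -- the unit
  have h1 : e.hom.app U t = val K' (e.hom.app U t) • t' := by
    apply val_injective
    rw [val_smul, ht', mul_one]
  have h2 : e.inv.app U t' = val K (e.inv.app U t') • t := by
    apply val_injective
    rw [val_smul, ht, mul_one]
  have h3 : val K' (e.hom.app U t) * val K (e.inv.app U t') = 1 := by
    have h4 : e.inv.app U (e.hom.app U t) = t := by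
      have := congr(Scheme.Modules.Hom.app $(e.hom_inv_id) U t)
      exact this
    rw [h1, Scheme.Modules.Hom.app_smul, h2] at h4
    have h5 := congrArg (val K) h4
    rw [val_smul, val_smul, ht, mul_one] at h5
    exact h5
  obtain ⟨b, hb, hbU⟩ := hext (val K' (e.hom.app U t)) (IsUnit.of_mul_eq_one _ h3)
  rw [Scheme.IdealSheafData.le_def]
  intro A s hs
  obtain ⟨m, hm⟩ := exists_val_eq K A hs
  have key : val K' (e.hom.app A.1 m) = ores le_top b * s := by
    apply ores_injective (A := A.1) (B := A.1 ⊓ U) inf_le_left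
    · intro hA
      exact nonempty_preirreducible_inter A.1.isOpen U.isOpen hA hU
    · rw [← val_res', map_mul, ores_ores]
      have h6 : res (ClSub.idealMod K) (inf_le_left : A.1 ⊓ U ≤ A.1) m =
          ores (inf_le_left : A.1 ⊓ U ≤ A.1) s • res _ (inf_le_right : A.1 ⊓ U ≤ U) t := by
        apply val_injective
        rw [val_smul, val_res', val_res', hm, ht, map_one, mul_one]
      rw [← app_res, h6, Scheme.Modules.Hom.app_smul, val_smul, app_res, val_res', ← hbU, ores_ores, mul_comm]
  have h7 : ores le_top b * s ∈ K'.ideal A := by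
    rw [← key]
    exact val_mem K' A _
  obtain ⟨c, hc⟩ := (hb.map (ores (le_top : A.1 ≤ ⊤))).exists_left_inv
  have h8 : s = c * (ores le_top b * s) := by
    rw [← mul_assoc, hc, one_mul]
  rw [h8]
  exact Ideal.mul_mem_left _ _ h7

theorem eq_of_iso [IsIntegral X] (U : X.Opens) (hU : (U : Set X).Nonempty) {K K' : X.IdealSheafData}
    (hK : ∀ x ∈ U, x ∉ K.support) (hK' : ∀ x ∈ U, x ∉ K'.support) (e : ClSub.idealMod K ≅ ClSub.idealMod K')
    (hext : ∀ a : Γ(X, U), IsUnit a → ∃ b : Γ(X, ⊤), IsUnit b ∧ ores le_top b = a) : K = K' :=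
  le_antisymm (le_of_iso U hU hK hK' e hext) (le_of_iso U hU hK' hK e.symm hext)

/-- Extension of units from the locus where `f` is an isomorphism. -/
theorem exists_ext_unit [IsLocallyNoetherian Y] (f : X ⟶ Y) (V : Y.Opens) [IsIso (f ∣_ V)]
    (hY : ∀ y : Y, IsDomain (Y.presheaf.stalk y) ∧ IsIntegrallyClosed (Y.presheaf.stalk y))
    (hV : ∀ y : Y, y ∉ (V : Set Y) → 2 ≤ ringKrullDim (Y.presheaf.stalk y)) (a : Γ(X, f ⁻¹ᵁ V)) (ha : IsUnit a) :
    ∃ b : Γ(X, ⊤), IsUnit b ∧ ores le_top b = a := by
  have hh : Function.Bijective (ores (le_top : V ≤ ⊤)) := by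
    have h := S7885.hartogs_fun hY V hV Fdesc.LocGen.isInvertible_structureModule ⊤
    have h1 : ∀ (V' : Y.Opens) (hV' : V' ≤ ⊤), V' = ⊤ ⊓ V → Function.Bijective (ores hV') := by
      rintro _ _ rfl
      exact h
    exact h1 V le_top (top_inf_eq V).symm
  have hiso : IsIso (f.app V) := by
    have h1 : IsIso ((f ∣_ V).app ⊤) := inferInstance
    rw [morphismRestrict_app] at h1
    have h4 : IsIso (X.presheaf.map (eqToHom (image_morphismRestrict_preimage f V ⊤)).op) := by
      infer_instance
    have h2 : IsIso (f.app (V.ι ''ᵁ ⊤)) := @IsIso.of_isIso_comp_right _ _ _ _ _ (f.app (V.ι ''ᵁ ⊤))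
      (X.presheaf.map (eqToHom (image_morphismRestrict_preimage f V ⊤)).op) h4 h1
    have h3 : ∀ V' : Y.Opens, V' = V.ι ''ᵁ ⊤ → IsIso (f.app V') := by
      rintro _ rfl
      exact h2
    exact h3 V (by simp)
  obtain ⟨a', ha'⟩ : ∃ a' : Γ(Y, V), f.app V a' = a := by
    refine ⟨(inv (f.app V)) a, ?_⟩
    rw [← ConcreteCategory.comp_apply, IsIso.inv_hom_id]
    rfl
  have ha'u : IsUnit a' := by
    have h1 : IsUnit ((f.app V).hom a') := by
      have : (f.app V).hom a' = a := ha'
      rw [this]; exact ha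
    have h2 := h1.map (inv (f.app V)).hom
    have h3 : (inv (f.app V)).hom ((f.app V).hom a') = a' := by
      have := congr($(IsIso.hom_inv_id (f.app V)) a')
      exact this
    rwa [h3] at h2
  obtain ⟨b, hb⟩ := hh.2 a'
  have hbu : IsUnit b := by
    obtain ⟨c', hc'⟩ := ha'u.exists_right_inv
    obtain ⟨c, hc⟩ := hh.2 c'
    refine IsUnit.of_mul_eq_one c (hh.1 ?_)
    rw [map_mul, hb, hc, hc', map_one]
  refine ⟨f.app ⊤ b, hbu.map (f.app ⊤).hom, ?_⟩
  rw [← ha', ← hb]
  have := congr($(f.naturality (homOfLE (le_top : V ≤ ⊤)).op) b)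
  exact this.symm

end K430.ExcUniq
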