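import Groth.Agent.Variety.K430.CanDiv
import Groth.Agent.Variety.K430.ExcUniq
import Groth.Agent.Variety.K430.ExcDim
import Groth.Agent.Picfga.CurveRelDim

/-!
# The relative canonical divisor and the exceptional locus
-/

set_option autoImplicit false
universe u

open CategoryTheory CategoryTheory.Limits AlgebraicGeometry Opposite TopologicalSpace

namespace K430.ExcCan

open Groth.Agent Groth.Agent.CycB.StalkExact Groth.Agent.Divis.CartierBasic Groth.Agent.Fga.PicMon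

theorem isIso_stalkMap {X Y : Scheme.{u}} (f : X ⟶ Y) (V : Y.Opens) [IsIso (f ∣_ V)] (x : X)
    (hx : f x ∈ V) : IsIso (f.stalkMap x) := by
  have h1 : IsIso ((f ∣_ V).stalkMap ⟨x, hx⟩) := inferInstance
  exact ((MorphismProperty.isomorphisms CommRingCat).arrow_mk_iso_iff
    (morphismRestrictStalkMap f V ⟨x, hx⟩)).mp h1

theorem isIso_restrict_iSup {X Y : Scheme.{u}} {f : X ⟶ Y} {ι : Type*} (U : ι → Y.Opens)
    (h : ∀ i, IsIso (f ∣_ U i)) : IsIso (f ∣_ ⨆ i, U i) := by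
  refine IsZariskiLocalAtTarget.of_iSup_eq_top (P := MorphismProperty.isomorphisms Scheme.{u})
    (fun i => (⨆ i, U i).ι ⁻¹ᵁ U i) ?_ ?_
  · apply (⨆ i, U i).ι.image_injective
    dsimp
    rw [Scheme.Hom.image_iSup, Scheme.Hom.image_top_eq_opensRange, Scheme.Opens.opensRange_ι]
    simp [Scheme.Hom.image_preimage_eq_opensRange_inf, le_iSup U]
  · intro i
    rw [(MorphismProperty.isomorphisms Scheme.{u}).arrow_mk_iso_iff (morphismRestrictRestrict f _ _)]
    have e : (⨆ i, U i).ι ''ᵁ (⨆ i, U i).ι ⁻¹ᵁ U i = U i := by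
      rw [Scheme.Hom.image_preimage_eq_opensRange_inf, Scheme.Opens.opensRange_ι]
      exact inf_eq_right.2 (le_iSup U i)
    have e' : ∀ V : Y.Opens, V = U i → IsIso (f ∣_ V) := by
      rintro V rfl
      exact h i
    exact e' _ e

theorem le_one_of_not_two_le {d : WithBot ℕ∞} (h : ¬ 2 ≤ d) : d ≤ 1 := by
  induction d with
  | bot => exact bot_le
  | coe e =>
    induction e with
    | top => exact absurd (by exact_mod_cast le_top) h
    | coe m =>
      have h' : ¬ 2 ≤ m := fun h2 => h (by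
        have : ((2 : ℕ) : ℕ∞) ≤ (m : ℕ∞) := by exact_mod_cast h2
        exact WithBot.coe_le_coe.mpr this)
      have h1 : m ≤ 1 := by omega
      have : (m : ℕ∞) ≤ ((1 : ℕ) : ℕ∞) := by exact_mod_cast h1
      exact WithBot.coe_le_coe.mpr this

/-- Cancellation of invertible modules. -/
theorem nonempty_iso_of_tensor {X : Scheme.{u}} {W A B F : X.Modules} (hW : PicF.IsInvertible W)
    (h₁ : Nonempty (CohB1.tensorMod W A ≅ F)) (h₂ : Nonempty (CohB1.tensorMod W B ≅ F)) : Nonempty (A ≅ B) := by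
  obtain ⟨P, -, hP⟩ := Grpsch.PicGrp.exists_inverse hW
  have e0 : mc W * mc P = 1 := mc_eq hP.some
  have e1 : mc W * mc A = mc F := mc_eq h₁.some
  have e2 : mc W * mc B = mc F := mc_eq h₂.some
  rw [← mc_eq_iff]
  calc mc A = (mc W * mc P) * mc A := by rw [e0, one_mul]
    _ = mc P * (mc W * mc A) := by rw [mul_comm (mc W), mul_assoc]
    _ = mc P * (mc W * mc B) := by rw [e1, e2]
    _ = (mc W * mc P) * mc B := by rw [← mul_assoc, mul_comm (mc P)]
    _ = mc B := by rw [e0, one_mul]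

theorem main {k : Type u} [Field k] {X Y : Scheme.{u}} (p : Y ⟶ Spec (CommRingCat.of k)) (f : X ⟶ Y)
    [IsIntegral X] [IsIntegral Y] [IsNoetherian Y] [IsSeparated p] [IsSeparated (f ≫ p)] [Smooth p] [Smooth (f ≫ p)]
    (hufd : ∀ y : Y, UniqueFactorizationMonoid (Y.presheaf.stalk y))
    (n : ℕ) (hdimX : topologicalKrullDim X = n) (hdimY : topologicalKrullDim Y = n) [IsProper f]
    (V : Y.Opens) (hV : (V : Set Y).Nonempty) (hfV : IsIso (f ∣_ V))
    (W : X.Modules) (hW : ExtPow.IsExtPow n (Omega.sheaf (f ≫ p)) W) (WY : Y.Modules)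
    (hWY : ExtPow.IsExtPow n (Omega.sheaf p) WY) :
    (∃! K : X.IdealSheafData, BlowUp.IsEffCartierIdeal K ∧
      (K.support : Set X) ⊆ {x : X | ∀ V : Y.Opens, f x ∈ V → ¬ IsIso (f ∣_ V)} ∧
      Nonempty (CohB1.tensorMod W (ClSub.idealMod K) ≅ (Scheme.Modules.pullback f).obj WY)) ∧
    ∀ K : X.IdealSheafData, BlowUp.IsEffCartierIdeal K →
      (K.support : Set X) ⊆ {x : X | ∀ V : Y.Opens, f x ∈ V → ¬ IsIso (f ∣_ V)} →
      Nonempty (CohB1.tensorMod W (ClSub.idealMod K) ≅ (Scheme.Modules.pullback f).obj WY) →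
      (K.support : Set X) = {x : X | ∀ V : Y.Opens, f x ∈ V → ¬ IsIso (f ∣_ V)} := by
  have sX : SmoothOfRelativeDimension n (f ≫ p) :=
    Picfga.CurveRelDim.smoothOfRelativeDimension_of_topologicalKrullDim_eq k X (f ≫ p) n hdimX
  have sY : SmoothOfRelativeDimension n p :=
    Picfga.CurveRelDim.smoothOfRelativeDimension_of_topologicalKrullDim_eq k Y p n hdimY
  have hY : ∀ y : Y, IsIntegrallyClosed (Y.presheaf.stalk y) := fun y => by
    have := hufd y
    infer_instance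
  have hη : Function.Surjective (f.stalkMap (genericPoint X)) := by
    have := isIso_stalkMap f V (genericPoint X) (K430.BirLoc.genericPoint_mem f V hV)
    exact (ConcreteCategory.bijective_of_isIso (f.stalkMap (genericPoint X))).2
  have hWi := K430.CanDiv.isInvertible_extPow (Dual.H339.OmegaRank.isFinLocFreeOfRank_omega n (f ≫ p)) hW
  obtain ⟨K, hK, hiso, hsupp, -⟩ := K430.CanDiv.exists_can_div p f n hη hWY hW
  have hc := K430.CanDiv.isDiffCompat_canMap p f
  have u1 := K136.UnivOmega.isUniversal_dOmega p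
  have u2 := K136.UnivOmega.isUniversal_dOmega (f ≫ p)
  have hKs : (K.support : Set X) = {x : X | ∀ V : Y.Opens, f x ∈ V → ¬ IsIso (f ∣_ V)} := by
    ext x
    rw [SetLike.mem_coe, ← not_iff_not, notMem_support_iff_stalkIdeal_eq_top, hsupp]
    have hset : (¬ x ∈ {x : X | ∀ V : Y.Opens, f x ∈ V → ¬ IsIso (f ∣_ V)}) ↔
        ∃ V : Y.Opens, f x ∈ V ∧ IsIso (f ∣_ V) := by
      change (¬ ∀ V : Y.Opens, f x ∈ V → ¬ IsIso (f ∣_ V)) ↔ _
      push Not
      rfl
    rw [hset]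
    constructor
    · intro hs
      have hq := K430.DiffStalk.quasiFiniteAt_of_surjective u1 u2 hc x hs
      exact S1655.result f V hV hfV (f x) (hY _) x rfl hq
    · rintro ⟨V', hx, hV'⟩
      refine K430.DiffStalk.surjective_of_surjective u1 u2 hc x ?_
      have := isIso_stalkMap f V' x hx
      exact (ConcreteCategory.bijective_of_isIso (f.stalkMap x)).2
  -- the largest open over which `f` is an isomorphism
  let V₀ : Y.Opens := ⨆ V : {V : Y.Opens // IsIso (f ∣_ V)}, V.1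
  have hV₀ : IsIso (f ∣_ V₀) := isIso_restrict_iSup _ fun V => V.2
  have hV₀' : ∀ y : Y, y ∉ (V₀ : Set Y) → 2 ≤ ringKrullDim (Y.presheaf.stalk y) := by
    intro y hy
    by_contra hcon
    have h1 : ringKrullDim (Y.presheaf.stalk y) ≤ 1 := le_one_of_not_two_le hcon
    obtain ⟨V', hyV, hV'⟩ := K430.BirLoc.exists_isIso_restrict f V hV hfV y (hY y) h1
    exact hy (TopologicalSpace.Opens.mem_iSup.mpr ⟨⟨V', hV'⟩, hyV⟩)
  have huniq : ∀ K₁ K₂ : X.IdealSheafData,
      (K₁.support : Set X) ⊆ {x : X | ∀ V : Y.Opens, f x ∈ V → ¬ IsIso (f ∣_ V)} →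
      (K₂.support : Set X) ⊆ {x : X | ∀ V : Y.Opens, f x ∈ V → ¬ IsIso (f ∣_ V)} →
      Nonempty (CohB1.tensorMod W (ClSub.idealMod K₁) ≅ (Scheme.Modules.pullback f).obj WY) →
      Nonempty (CohB1.tensorMod W (ClSub.idealMod K₂) ≅ (Scheme.Modules.pullback f).obj WY) → K₁ = K₂ := by
    intro K₁ K₂ s₁ s₂ i₁ i₂
    obtain ⟨e⟩ := nonempty_iso_of_tensor hWi i₁ i₂
    refine K430.ExcUniq.eq_of_iso (f ⁻¹ᵁ V₀) ⟨genericPoint X, ?_⟩ ?_ ?_ e ?_
    · exact TopologicalSpace.Opens.mem_iSup.mpr ⟨⟨V, hfV⟩, K430.BirLoc.genericPoint_mem f V hV⟩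
    · exact fun x hx hx' => s₁ hx' V₀ hx hV₀
    · exact fun x hx hx' => s₂ hx' V₀ hx hV₀
    · intro a ha
      have hY' : ∀ y : Y, IsDomain (Y.presheaf.stalk y) ∧ IsIntegrallyClosed (Y.presheaf.stalk y) :=
        fun y => ⟨inferInstance, hY y⟩
      exact K430.ExcUniq.exists_ext_unit f V₀ hY' hV₀' a ha
  refine ⟨⟨K, ⟨hK, hKs.le, hiso⟩, ?_⟩, ?_⟩
  · rintro K' ⟨-, hs', hi'⟩
    exact huniq K' K hs' hKs.le hi' hiso
  · intro K' _ hs' hi'
    rw [huniq K' K hs' hKs.le hi' hiso]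
    exact hKs

end K430.ExcCan
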