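import Groth.Agent.CycA.MovJetDim
import Groth.Agent.VarietyB.DimSch
import Mathlib.RingTheory.Kaehler.Basic
import Mathlib.RingTheory.Unramified.Finite
import Mathlib.RingTheory.Localization.FractionRing

/-!
# Commutative algebra for the fibre of relative differentials

`k` algebraically closed, `C → B` algebras of finite type over `k`, `q ⊆ p` primes of `B` with the same trace on `C`, `p` maximal:
`dim B/q ≤ dim_k Ω_{B/C} ⊗ k(p)`.
-/

set_option autoImplicit false
universe u
open IsLocalRing TensorProduct

namespace K430.FibOmAlg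

section Core

variable {k C B : Type u} [Field k] [IsAlgClosed k] [CommRing C] [CommRing B] [Algebra k C] [Algebra k B]
  [Algebra C B] [IsScalarTower k C B] [Algebra.FiniteType k B]
  (p q : Ideal B) [p.IsMaximal]

omit [CommRing C] [Algebra k C] [Algebra C B] [IsScalarTower k C B] in
theorem exists_const (b : B) : ∃ a : k, b - algebraMap k B a ∈ p := by
  let _ : Field (B ⧸ p) := Ideal.Quotient.field p
  have : Algebra.FiniteType k (B ⧸ p) := Algebra.FiniteType.of_surjective (Ideal.Quotient.mkₐ k p)
    (Ideal.Quotient.mkₐ_surjective k p)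
  have : Module.Finite k (B ⧸ p) := finite_of_finite_type_of_isJacobsonRing k (B ⧸ p)
  obtain ⟨a, ha⟩ := (IsAlgClosed.algebraMap_bijective_of_isIntegral (k := k) (K := B ⧸ p)).2
    (Ideal.Quotient.mk p b)
  refine ⟨a, ?_⟩
  rw [← Ideal.Quotient.eq_zero_iff_mem, map_sub, ← ha]
  exact sub_self _

theorem exists_const_C (hC : p.comap (algebraMap C B) ≤ q.comap (algebraMap C B)) (c : C) :
    ∃ a : k, algebraMap C B c - algebraMap k B a ∈ q := by
  obtain ⟨a, ha⟩ := exists_const (k := k) p (algebraMap C B c)
  refine ⟨a, ?_⟩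
  have h1 : algebraMap C B (c - algebraMap k C a) ∈ p := by
    rw [map_sub, ← IsScalarTower.algebraMap_apply]
    exact ha
  have h2 : algebraMap C B (c - algebraMap k C a) ∈ q := hC h1
  rwa [map_sub, ← IsScalarTower.algebraMap_apply] at h2

/-- In a local ring `O'` which is a localization of a quotient of `B` with closed point `p`, the residue field is `k`. -/
theorem res_surj {O' : Type u} [CommRing O'] [IsLocalRing O'] [Algebra k O'] [Algebra B O']
    [IsScalarTower k B O'] (hp : p = (maximalIdeal O').comap (algebraMap B O'))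
    (hO' : ∀ y : O', ∃ b s : B, s ∉ p ∧ algebraMap B O' s * y = algebraMap B O' b) :
    Function.Surjective (algebraMap k (ResidueField O')) := by
  intro z
  obtain ⟨y, rfl⟩ := IsLocalRing.residue_surjective z
  obtain ⟨b, s, hs, h⟩ := hO' y
  obtain ⟨a, ha⟩ := exists_const (k := k) p b
  obtain ⟨c, hc⟩ := exists_const (k := k) p s
  have key : ∀ t : B, ∀ d : k, t - algebraMap k B d ∈ p →
      residue O' (algebraMap B O' t) = algebraMap k (ResidueField O') d := by
    intro t d h
    rw [hp, Ideal.mem_comap, ← residue_eq_zero_iff, map_sub, map_sub, sub_eq_zero] at h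
    rw [h, ← IsScalarTower.algebraMap_apply k B O']
    rfl
  have hs' : residue O' (algebraMap B O' s) ≠ 0 := by
    rw [ne_eq, residue_eq_zero_iff]
    rw [hp, Ideal.mem_comap] at hs
    exact hs
  have h2 := congrArg (residue O') h
  rw [map_mul, key b a ha, key s c hc] at h2
  rw [key s c hc] at hs'
  have hc0 : c ≠ 0 := by
    rintro rfl
    exact hs' (map_zero _)
  refine ⟨a / c, ?_⟩
  rw [map_div₀, ← h2, mul_comm, mul_div_assoc, div_self hs', mul_one]

variable {O N : Type u} [CommRing O] [IsLocalRing O] [Algebra k O] [Algebra B O] [IsScalarTower k B O]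
  [IsLocalization.AtPrime O p] [AddCommGroup N] [Module O N] [Module B N] [IsScalarTower B O N]

/-- the surjection from the fibre of `Ω_{B/C}` at `p` to the cotangent space of `B/q` at `p`. -/
theorem exists_surj {O' : Type u} [CommRing O'] [IsLocalRing O'] [Algebra k O'] [Algebra B O'] [IsScalarTower k B O']
    [Algebra O O'] [IsScalarTower B O O'] [IsScalarTower k O O']
    (hp : p = (maximalIdeal O').comap (algebraMap B O'))
    (hq : ∀ c : C, ∃ a : k, algebraMap B O' (algebraMap C B c) = algebraMap k O' a)
    (hO' : ∀ y : O', ∃ b s : B, s ∉ p ∧ algebraMap B O' s * y = algebraMap B O' b)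
    (l : Ω[B⁄C] →ₗ[B] N) [IsLocalizedModule p.primeCompl l] :
    ∃ φ : N →ₗ[O] (ResidueField O') ⊗[O'] Ω[O'⁄k], Function.Surjective φ ∧
      ∀ a ∈ maximalIdeal O, ∀ t : (ResidueField O') ⊗[O'] Ω[O'⁄k], a • t = 0 := by
  let T := (ResidueField O') ⊗[O'] Ω[O'⁄k]
  -- the derivation
  let δ : O' →ₗ[k] T :=
    { toFun := fun y => (1 : ResidueField O') ⊗ₜ[O'] KaehlerDifferential.D k O' y
      map_add' := fun a b => by rw [map_add, TensorProduct.tmul_add]
      map_smul' := fun a b => by
        rw [(KaehlerDifferential.D k O').map_smul, TensorProduct.tmul_smul]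
        rfl }
  have hδ : ∀ a b : O', δ (a * b) = a • δ b + b • δ a := by
    intro a b
    change _ ⊗ₜ[O'] _ = _
    rw [Derivation.leibniz, TensorProduct.tmul_add, TensorProduct.tmul_smul, TensorProduct.tmul_smul]
    rfl
  have hδk : ∀ a : k, δ (algebraMap k O' a) = 0 := by
    intro a
    change _ ⊗ₜ[O'] _ = _
    rw [Derivation.map_algebraMap, TensorProduct.tmul_zero]
  have hBT : ∀ (b : B) (t : T), b • t = algebraMap B O' b • t := fun b t => (algebraMap_smul O' b t).symm
  let _ : Module C T := Module.compHom T (algebraMap C B)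
  have hCT : ∀ (b : C) (t : T), b • t = algebraMap C B b • t := fun _ _ => rfl
  have : IsScalarTower C B T := ⟨fun a b c => by
    rw [hCT, Algebra.smul_def, mul_smul]⟩
  let δC : Derivation C B T :=
    { toFun := fun b => δ (algebraMap B O' b)
      map_add' := fun a b => by rw [map_add, map_add]
      map_smul' := fun c b => by
        obtain ⟨a, ha⟩ := hq c
        rw [Algebra.smul_def, map_mul, hδ, ha, hδk, smul_zero, add_zero, RingHom.id_apply, hCT, hBT, ha]
      map_one_eq_zero' := by
        change δ (algebraMap B O' 1) = 0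
        rw [map_one, ← map_one (algebraMap k O'), hδk]
      leibniz' := fun a b => by
        change δ (algebraMap B O' (a * b)) = a • δ (algebraMap B O' b) + b • δ (algebraMap B O' a)
        rw [map_mul, hδ, hBT, hBT] }
  have hOO' : ∀ (a : O) (t : T), a • t = algebraMap O O' a • t := by
    intro a t
    exact (algebraMap_smul O' a t).symm
  have : IsScalarTower B O T := ⟨fun a b c => by
    rw [hOO', Algebra.smul_def, map_mul, mul_smul, hBT, ← IsScalarTower.algebraMap_apply, hOO']⟩
  let φ₀ : Ω[B⁄C] →ₗ[B] T := δC.liftKaehlerDifferential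
  have hunit : ∀ s : p.primeCompl, IsUnit (algebraMap B (Module.End B T) s) := by
    intro s
    have h1 : IsUnit (algebraMap B O s) := IsLocalization.map_units O s
    obtain ⟨u, hu⟩ := h1
    rw [Module.End.isUnit_iff]
    have h2 : ∀ t : T, algebraMap B (Module.End B T) s t = (u : O) • t := by
      intro t
      rw [Module.algebraMap_end_apply, hu, algebraMap_smul]
    constructor
    · intro a b h
      rw [h2, h2] at h
      have := congrArg (fun t => ((u⁻¹ : Oˣ) : O) • t) h
      simpa [smul_smul] using this
    · intro t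
      refine ⟨((u⁻¹ : Oˣ) : O) • t, ?_⟩
      rw [h2, smul_smul, Units.mul_inv, one_smul]
  let φ₁ : N →ₗ[B] T := IsLocalizedModule.lift p.primeCompl l φ₀ hunit
  have hφ₁ : ∀ w, φ₁ (l w) = φ₀ w := fun w => by
    exact IsLocalizedModule.lift_apply p.primeCompl l φ₀ hunit w
  let φ : N →ₗ[O] T := LinearMap.extendScalarsOfIsLocalization p.primeCompl O φ₁
  have hφ : ∀ n, φ n = φ₁ n := fun _ => rfl
  refine ⟨φ, ?_, ?_⟩
  · have hsurj := res_surj (k := k) p hp hO'
    have hmem : ∀ b : B, δ (algebraMap B O' b) ∈ LinearMap.range φ := by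
      intro b
      refine ⟨l (KaehlerDifferential.D C B b), ?_⟩
      rw [hφ, hφ₁]
      exact δC.liftKaehlerDifferential_comp_D b
    have hk : ∀ (a : k) (t : T), a • t = algebraMap k O a • t := by
      intro a t
      rw [hOO', ← IsScalarTower.algebraMap_apply]
      exact (algebraMap_smul O' a t).symm
    have hsm : ∀ (a : k) (t : T), t ∈ LinearMap.range φ → a • t ∈ LinearMap.range φ := by
      intro a t ht
      rw [hk]
      exact Submodule.smul_mem _ _ ht
    have hres : ∀ (y : O') (t : T), y • t = residue O' y • t := fun y t => by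
      exact (algebraMap_smul (ResidueField O') y t).symm
    have hks : ∀ (a : k) (t : T), algebraMap k (ResidueField O') a • t = a • t := fun a t =>
      algebraMap_smul (ResidueField O') a t
    have hsm' : ∀ (y : ResidueField O') (t : T), t ∈ LinearMap.range φ → y • t ∈ LinearMap.range φ := by
      intro y t ht
      obtain ⟨a, rfl⟩ := hsurj y
      rw [hks]
      exact hsm a t ht
    have hδm : ∀ y : O', δ y ∈ LinearMap.range φ := by
      intro y
      obtain ⟨b, s, hs, h⟩ := hO' y
      have h1 : algebraMap B O' s • δ y = δ (algebraMap B O' b) - y • δ (algebraMap B O' s) := by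
        rw [← h, hδ, add_sub_cancel_right]
      have h2 : algebraMap B O' s • δ y ∈ LinearMap.range φ := by
        rw [h1]
        refine sub_mem (hmem b) ?_
        rw [hres]
        exact hsm' _ _ (hmem s)
      have h3 : IsUnit (algebraMap B O s) := IsLocalization.map_units O (⟨s, hs⟩ : p.primeCompl)
      obtain ⟨u, hu⟩ := h3
      have h4 : algebraMap B O' s • δ y = (u : O) • δ y := by
        rw [hOO', hu, ← IsScalarTower.algebraMap_apply]
      rw [h4] at h2
      have h5 := Submodule.smul_mem _ ((u⁻¹ : Oˣ) : O) h2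
      rwa [smul_smul, Units.inv_mul, one_smul] at h5
    intro t
    induction t using TensorProduct.induction_on with
    | zero => exact ⟨0, map_zero _⟩
    | add a b ha hb =>
      obtain ⟨a', ha'⟩ := ha
      obtain ⟨b', hb'⟩ := hb
      exact ⟨a' + b', by rw [map_add, ha', hb']⟩
    | tmul y w =>
      change _ ∈ LinearMap.range φ
      have h1 : y ⊗ₜ[O'] w = y • ((1 : ResidueField O') ⊗ₜ[O'] w) := by
        rw [TensorProduct.smul_tmul', smul_eq_mul, mul_one]
      rw [h1]
      refine hsm' _ _ ?_
      clear h1
      have hw : w ∈ Submodule.span O' (Set.range (KaehlerDifferential.D k O')) := by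
        rw [KaehlerDifferential.span_range_derivation]
        trivial
      induction hw using Submodule.span_induction with
      | mem x hx =>
        obtain ⟨y, rfl⟩ := hx
        exact hδm y
      | zero =>
        rw [TensorProduct.tmul_zero]
        exact zero_mem _
      | add a b _ _ ha hb =>
        rw [TensorProduct.tmul_add]
        exact add_mem ha hb
      | smul a b _ hb =>
        rw [TensorProduct.tmul_smul]
        have := hsm' (residue O' a) _ hb
        rw [← hres] at this
        exact this
  · intro a ha t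
    rw [hOO']
    have h1 : residue O' (algebraMap O O' a) = 0 := by
      rw [residue_eq_zero_iff]
      by_contra hcon
      obtain ⟨b, s, rfl⟩ := IsLocalization.exists_mk'_eq p.primeCompl a
      have h2 : b ∈ p := by
        rw [IsLocalization.AtPrime.mk'_mem_maximal_iff O p] at ha
        exact ha
      have h3 : algebraMap O O' (IsLocalization.mk' O b s) * algebraMap B O' s = algebraMap B O' b := by
        rw [IsScalarTower.algebraMap_apply B O O' s, ← map_mul, IsLocalization.mk'_spec,
          ← IsScalarTower.algebraMap_apply]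
      rw [hp, Ideal.mem_comap] at h2
      rw [← h3] at h2
      have h4 := (Ideal.IsPrime.mem_or_mem (IsLocalRing.maximalIdeal.isMaximal O').isPrime h2).resolve_left hcon
      exact s.2 (hp.symm.le h4)
    have h2 : algebraMap O O' a • t = residue O' (algebraMap O O' a) • t :=
      (algebraMap_smul (ResidueField O') _ t).symm
    rw [h2, h1, zero_smul]

/-- the dimension bound for the residue local ring of `B/q` at `p` -/
theorem dim_le_finrank [q.IsPrime] {O' : Type u} [CommRing O'] [IsLocalRing O'] [Algebra k O'] [Algebra (B ⧸ q) O']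
    [IsScalarTower k (B ⧸ q) O'] (p' : Ideal (B ⧸ q)) [p'.IsPrime] [IsLocalization.AtPrime O' p']
    (r : ℕ) (hr : ringKrullDim (B ⧸ q) = r) :
    r ≤ Module.finrank (ResidueField O') ((ResidueField O') ⊗[O'] Ω[O'⁄k]) := by
  have hdom : IsDomain O' := IsLocalization.isDomain_of_atPrime O' p'
  have hess : Algebra.EssFiniteType (B ⧸ q) O' := Algebra.EssFiniteType.of_isLocalization O' p'.primeCompl
  have hft : Algebra.FiniteType k (B ⧸ q) := Algebra.FiniteType.of_surjective (Ideal.Quotient.mkₐ k q)
    (Ideal.Quotient.mkₐ_surjective k q)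
  have hes : Algebra.EssFiniteType k O' := Algebra.EssFiniteType.comp k (B ⧸ q) O'
  have h1 := Groth.Agent.CycA.MovJet.trdeg_le_finrank (K := k) (B := O') (L := FractionRing O')
    (nonZeroDivisors O')
  obtain ⟨n, hn, hdim⟩ := Groth.Agent.Ega4B.DimFT.exists_dim k (B ⧸ q)
  have hrn : r = n := by
    rw [hr] at hdim
    exact_mod_cast hdim
  subst hrn
  let ψ : (B ⧸ q) →ₐ[k] FractionRing O' :=
    (IsScalarTower.toAlgHom k O' (FractionRing O')).comp (IsScalarTower.toAlgHom k (B ⧸ q) O')
  have hψ : Function.Injective ψ := by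
    refine (IsFractionRing.injective O' (FractionRing O')).comp ?_
    exact IsLocalization.injective O' p'.primeCompl_le_nonZeroDivisors
  have h2 := trdeg_le_of_injective ψ hψ
  rw [hn] at h2
  exact_mod_cast h2.trans h1

include p in
/-- `dim B/q ≤ dim_k Ω_{B/C} ⊗ κ(p)`. -/
theorem le_finrank [q.IsPrime] (hqp : q ≤ p) (hC : p.comap (algebraMap C B) ≤ q.comap (algebraMap C B))
    (r : ℕ) (hr : ringKrullDim (B ⧸ q) = r) (l : Ω[B⁄C] →ₗ[B] N) [IsLocalizedModule p.primeCompl l]
    [Module k (N ⧸ (maximalIdeal O • (⊤ : Submodule O N)))]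
    (hk : ∀ (a : k) (t : N ⧸ (maximalIdeal O • (⊤ : Submodule O N))), a • t = algebraMap k O a • t) :
    r ≤ Module.finrank k (N ⧸ (maximalIdeal O • (⊤ : Submodule O N))) := by
  let p' : Ideal (B ⧸ q) := p.map (Ideal.Quotient.mk q)
  have hcm : p'.comap (Ideal.Quotient.mk q) = p := by
    rw [Ideal.comap_map_of_surjective _ Ideal.Quotient.mk_surjective, sup_eq_left]
    intro x hx
    apply hqp
    rw [← Ideal.Quotient.eq_zero_iff_mem]
    exact hx
  have hp' : p'.IsPrime := by
    apply Ideal.map_isPrime_of_surjective Ideal.Quotient.mk_surjective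
    rw [Ideal.mk_ker]
    exact hqp
  let O' := Localization.AtPrime p'
  have hmk : ∀ b : B, algebraMap B O' b = algebraMap (B ⧸ q) O' (Ideal.Quotient.mk q b) := fun b =>
    IsScalarTower.algebraMap_apply B (B ⧸ q) O' b
  have hp : p = (maximalIdeal O').comap (algebraMap B O') := by
    have h1 : (maximalIdeal O').comap (algebraMap (B ⧸ q) O') = p' := Localization.AtPrime.comap_maximalIdeal
    ext x
    rw [Ideal.mem_comap, hmk, ← Ideal.mem_comap, h1, ← Ideal.mem_comap, hcm]
  have hunit : ∀ s : p.primeCompl, IsUnit (algebraMap B O' s) := by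
    intro s
    by_contra h
    exact s.2 (hp.symm.le ((mem_maximalIdeal _).mpr h))
  let _ : Algebra O O' := (IsLocalization.lift (M := p.primeCompl) (g := algebraMap B O') hunit).toAlgebra
  have : IsScalarTower B O O' := IsScalarTower.of_algebraMap_eq fun b =>
    (IsLocalization.lift_eq (M := p.primeCompl) hunit b).symm
  have : IsScalarTower k O O' := IsScalarTower.of_algebraMap_eq fun b => by
    rw [IsScalarTower.algebraMap_apply k B O, ← IsScalarTower.algebraMap_apply B O O',
      ← IsScalarTower.algebraMap_apply]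
  have hq : ∀ c : C, ∃ a : k, algebraMap B O' (algebraMap C B c) = algebraMap k O' a := by
    intro c
    obtain ⟨a, ha⟩ := exists_const_C (k := k) p q hC c
    refine ⟨a, ?_⟩
    rw [IsScalarTower.algebraMap_apply k B O', ← sub_eq_zero, ← map_sub, hmk,
      Ideal.Quotient.eq_zero_iff_mem.mpr ha, map_zero]
  have hO' : ∀ y : O', ∃ b s : B, s ∉ p ∧ algebraMap B O' s * y = algebraMap B O' b := by
    intro y
    obtain ⟨b, s, rfl⟩ := IsLocalization.exists_mk'_eq p'.primeCompl y
    obtain ⟨b, rfl⟩ := Ideal.Quotient.mk_surjective b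
    obtain ⟨s, hs⟩ := s
    obtain ⟨s, rfl⟩ := Ideal.Quotient.mk_surjective s
    refine ⟨b, s, fun h => hs (Ideal.mem_map_of_mem _ h), ?_⟩
    rw [hmk, hmk, mul_comm]
    exact IsLocalization.mk'_spec O' (Ideal.Quotient.mk q b) (⟨Ideal.Quotient.mk q s, hs⟩ : p'.primeCompl)
  have hdim := dim_le_finrank (k := k) q (O' := O') p' r hr
  obtain ⟨φ, hφs, hφk⟩ := exists_surj (k := k) p (O := O) (O' := O') hp hq hO' l
  have hκ := res_surj (k := k) (O' := O') p hp hO'
  let T := (ResidueField O') ⊗[O'] Ω[O'⁄k]
  -- descend
  have hle : maximalIdeal O • (⊤ : Submodule O N) ≤ LinearMap.ker φ := by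
    rw [Submodule.smul_le]
    intro a ha n _
    rw [LinearMap.mem_ker, map_smul]
    exact hφk a ha _
  let Φ : (N ⧸ (maximalIdeal O • (⊤ : Submodule O N))) →ₗ[O] T := Submodule.liftQ _ φ hle
  have hΦs : Function.Surjective Φ := by
    intro t
    obtain ⟨n, hn⟩ := hφs t
    exact ⟨Submodule.Quotient.mk n, hn⟩
  have hkT : ∀ (a : k) (t : T), a • t = algebraMap k O a • t := by
    intro a t
    rw [← algebraMap_smul O' (algebraMap k O a) t, ← IsScalarTower.algebraMap_apply]
    exact (algebraMap_smul O' a t).symm
  let Ψ : (N ⧸ (maximalIdeal O • (⊤ : Submodule O N))) →ₗ[k] T :=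
    { toFun := Φ
      map_add' := map_add Φ
      map_smul' := fun a n => by
        rw [hk, map_smul, RingHom.id_apply, hkT] }
  -- finiteness
  have hft : Algebra.FiniteType C B := Algebra.FiniteType.of_restrictScalars_finiteType k C B
  have hΩ : Module.Finite B Ω[B⁄C] := inferInstance
  have hN : Module.Finite O N := Module.Finite.of_isLocalizedModule p.primeCompl l
  have hfin : Module.Finite k (N ⧸ (maximalIdeal O • (⊤ : Submodule O N))) := by
    obtain ⟨S, hS⟩ := (Module.finite_def.mp (inferInstance : Module.Finite O (N ⧸ (maximalIdeal O • (⊤ : Submodule O N)))))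
    refine ⟨⟨S, ?_⟩⟩
    rw [_root_.eq_top_iff]
    intro t _
    have ht : t ∈ Submodule.span O (S : Set _) := by rw [hS]; trivial
    have hact : ∀ a : O, ∃ c : k, ∀ t : N ⧸ (maximalIdeal O • (⊤ : Submodule O N)), a • t = c • t := by
      intro a
      have h0 : ∃ c : k, a - algebraMap k O c ∈ maximalIdeal O := by
        have hpO : p = (maximalIdeal O).comap (algebraMap B O) :=
          (IsLocalization.AtPrime.comap_maximalIdeal O p).symm
        obtain ⟨c, hc⟩ := res_surj (k := k) (O' := O) p hpO (fun y => by
          obtain ⟨b, s, rfl⟩ := IsLocalization.exists_mk'_eq p.primeCompl y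
          exact ⟨b, s, s.2, by rw [mul_comm]; exact IsLocalization.mk'_spec O b s⟩) (residue O a)
        refine ⟨c, ?_⟩
        rw [← residue_eq_zero_iff, map_sub, ← hc]
        exact sub_self _
      obtain ⟨c, hc⟩ := h0
      refine ⟨c, fun t => ?_⟩
      rw [hk, ← sub_eq_zero, ← sub_smul]
      obtain ⟨n, rfl⟩ := Submodule.Quotient.mk_surjective _ t
      rw [← Submodule.Quotient.mk_smul, Submodule.Quotient.mk_eq_zero]
      exact Submodule.smul_mem_smul hc trivial
    induction ht using Submodule.span_induction with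
    | mem x hx => exact Submodule.subset_span hx
    | zero => exact zero_mem _
    | add a b _ _ ha hb => exact add_mem (ha trivial) (hb trivial)
    | smul a b _ hb =>
      obtain ⟨c, hc⟩ := hact a
      rw [hc]
      exact Submodule.smul_mem _ _ (hb trivial)
  have h3 : Module.finrank k T ≤ Module.finrank k (N ⧸ (maximalIdeal O • (⊤ : Submodule O N))) :=
    LinearMap.finrank_le_finrank_of_surjective (f := Ψ) hΦs
  have h4 : Module.finrank k (ResidueField O') = 1 := by
    have hb : Function.Bijective (algebraMap k (ResidueField O')) := ⟨(algebraMap k (ResidueField O')).injective, hκ⟩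
    exact (LinearEquiv.ofBijective (Algebra.linearMap k (ResidueField O')) hb).finrank_eq.symm.trans
      (Module.finrank_self k)
  have h5 : Module.finrank k (ResidueField O') * Module.finrank (ResidueField O') T = Module.finrank k T :=
    Module.finrank_mul_finrank k (ResidueField O') T
  rw [h4, one_mul] at h5
  exact hdim.trans (h5.le.trans h3)

end Core

end K430.FibOmAlg
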